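import Cfsg.Agent.H678.PV.Pair
import Cfsg.Agent.H492.IMHe

/-!
# `He`, `p = 7` (helper678)

An element of order 7 with the centraliser `7 × L₃(2)`.
-/

set_option autoImplicit false
set_option maxRecDepth 100000

universe u

namespace Cfsg.Agent.H678.PV

open Subgroup Cfsg
open Cfsg.Agent.H665.NoPQ Cfsg.Agent.H713 Cfsg.Agent.H620.PNorm

namespace HeSeven

open Cfsg.Spor.He (Gen)
open Cfsg.Agent.SporadicB.HePerm (act wd)
open Cfsg.Agent.FixBN.HeStab Cfsg.Agent.KFacts.He.Lv Cfsg.Agent.CpAutHe.Cnt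
open Cfsg.Agent.H492.IMHeCnt Cfsg.Agent.H492.IMHeDat Cfsg.Agent.H492.IMTools
open Cfsg.Agent.H492.IMHe (o1 o2 o4 o7 oy7 oz73 pair arith7 dvd_cent Z73)

theorem main : VOrdP 7 Cfsg.Spor.He := by
  have fp7 : Fact (Nat.Prime 7) := ⟨by norm_num⟩
  have hfin : Finite Cfsg.Spor.He := Nat.finite_of_card_ne_zero (by rw [card_he]; norm_num)
  have hp := pair (p := 7) XB7 YB7 _ o7 oy7 (by decide +kernel) (by decide +kernel)
    (by norm_num) qB7
  have hle : Nat.card (centralizer ({wd XB7} : Set Cfsg.Spor.He)) ≤ 1176 :=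
    Cfsg.Agent.CpAutHe.Bound.card0
  have h3 : 3 ∣ Nat.card (centralizer ({wd XB7} : Set Cfsg.Spor.He)) :=
    dvd_cent (comm_of_chk (by decide +kernel)) oz73
  have h4 : 4 ∣ Nat.card (centralizer ({wd XB7} : Set Cfsg.Spor.He)) :=
    dvd_cent (comm_of_chk (by decide +kernel)) o4
  have h0 : 0 < Nat.card (centralizer ({wd XB7} : Set Cfsg.Spor.He)) := Nat.card_pos
  obtain ⟨m, hm⟩ := hp.1
  have hm' := arith7 hle h3 h4 h0 hm
  have hm7 : ¬ 7 ∣ m := by rcases hm' with rfl | rfl <;> decide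
  refine vOrdP_of_pair (x := wd XB7) (y := wd YB7) o7 oy7 (comm_of_chk (by decide +kernel))
    (not_mem_zpowers_of (by norm_num) o7 (by decide +kernel)) hp.2 hm hm7 {1, 2, 3, 4} ?_ ?_ ?_
  · intro n hn
    simp only [Finset.mem_insert, Finset.mem_singleton] at hn
    rcases hn with rfl | rfl | rfl | rfl
    exacts [⟨by norm_num, _, comm_of_chk (by decide +kernel), o1⟩,
      ⟨by norm_num, _, comm_of_chk (by decide +kernel), o2⟩,
      ⟨by norm_num, _, comm_of_chk (by decide +kernel), oz73⟩,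
      ⟨by norm_num, _, comm_of_chk (by decide +kernel), o4⟩]
  · rcases hm' with rfl | rfl
    · intro h; exact absurd h (by decide)
    · intro _; decide
  · rw [card_he]; norm_num

end HeSeven

/-- **`He`, `p = 7`.** -/
theorem he_7 {K : Type u} [Group K] (h : Spor.IsoHe K) : VOrdP 7 K := by
  obtain ⟨e⟩ := h
  exact HeSeven.main.mulEquiv e.symm

end Cfsg.Agent.H678.PV
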