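import Cfsg.Agent.H678.PV.CoThreeFive
import Cfsg.Agent.H843.IMC.Co2B

/-!
# `Co₂`, `p = 5` (helper678)

* `symSq_co2` : `Sym² μ = 1 + χ`, where `μ` has degree 23 and `χ` has degree 275;
* `exists_trace` : `Co₂` contains an element of order 5 of trace `-1` on the Leech lattice (from `Co₃`);
* `co2_5` : so `χ` vanishes there.
-/

set_option autoImplicit false

universe u

namespace Cfsg.Agent.H678.PV.CoTwoFive

open Cfsg Cfsg.Agent.Characters.Core Cfsg.Agent.H419.LeechIrr Cfsg.Agent.H419.LeechFix MulAction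
open Cfsg.Agent.SporadicStructure.Co2RankThree
open Cfsg.Agent.H843.IMC Cfsg.Agent.H843.IMC.Co2B
open Cfsg.Agent.H713.Spor.RankThree (pc pc_one)
open Cfsg.Agent.H678.PV.CoSym Cfsg.Agent.H678.PV.CoThreeFive
open scoped ComplexConjugate

/-! ### the element -/

theorem lchi_conj {G : Type*} [Group G] (f : G →* Co0) (g : G) (c : Co0) :
    lchi (MonoidHom.id Co0) (c * f g * c⁻¹) = lchi f g := by
  exact isCharacter_isClassFunction (isCharacter_lchi (MonoidHom.id Co0)) (f g) c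

theorem exists_trace_co3 : ∃ z : Spor.Co3, orderOf z = 5 ∧ lchi H419.Spor.Co3.inc z = -1 ∧
    ∃ x : H707.RowCo3.X, z • x = x := by
  obtain ⟨μ, θ, hμ, hθ, h⟩ := exists_main
  obtain ⟨z, hz, hfix⟩ := exists_fix_one
  obtain ⟨hpow, t, d, ht, hd⟩ := trace_five H419.Spor.Co3.inc hz
  refine ⟨z, hz, ?_, ?_⟩
  · have h1 := h z
    have h2 : (μ : Spor.Co3 → ℂ) z = t - 1 := by rw [← ht, hμ]; ring
    have h3 : (μ : Spor.Co3 → ℂ) (z * z) = t - 1 := by
      rw [← ht, ← hpow 2 (by norm_num), pow_two, hμ]; ring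
    rw [h2, h3, hθ, hfix] at h1
    have h4 : ((t - 1) ^ 2 + (t - 1) : ℤ) = 2 := by
      have h5 : (((t - 1) ^ 2 + (t - 1) : ℤ) : ℂ) = ((2 : ℤ) : ℂ) := by
        push_cast
        push_cast at h1
        linear_combination 2 * h1
      exact_mod_cast h5
    have h6 : (t - 2) * (t + 1) = 0 := by linear_combination h4
    rcases mul_eq_zero.1 h6 with h7 | h7
    · exfalso
      omega
    · rw [ht, show t = -1 by omega]
      norm_num
  · have h1 : 0 < Nat.card (fixedBy Co3A.Y z) := by rw [hfix]; norm_num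
    obtain ⟨⟨w, hw⟩⟩ := (Nat.card_pos_iff.1 h1).1
    obtain ⟨x, rfl⟩ := Quotient.exists_rep w
    rw [mem_fixedBy] at hw
    refine ⟨x, ?_⟩
    rcases (Co3A.mk_eq (z • x) x).1 hw with h2 | h2
    · exact h2.symm
    · exfalso
      have h3 : z • x = H707.RowCo3.opp x := by
        rw [h2, H707.RowCo3.opp_opp, ← h2]
      have h4 : z • z • x = x := by rw [h3, H707.RowCo3.smul_opp, h3, H707.RowCo3.opp_opp]
      have h5 : z ^ 5 • x = H707.RowCo3.opp x := by
        rw [show z ^ 5 = z * (z * (z * (z * z))) by simp only [pow_succ, pow_zero, one_mul, mul_assoc], mul_smul, mul_smul, mul_smul, mul_smul, h4, h4, h3]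
      rw [← hz, pow_orderOf_eq_one, one_smul] at h5
      exact Co3A.opp_ne x h5.symm

theorem exists_trace : ∃ y : Spor.Co2, orderOf y = 5 ∧ lchi H419.Spor.Co2.inc y = -1 := by
  obtain ⟨z, hz, ht, x, hx⟩ := exists_trace_co3
  obtain ⟨c, hc⟩ := Cfsg.Agent.Leech.Trans.co0_transitive_min x.1 Spor.leechU x.2.1 (by
    show sqNorm Spor.vecU = 32
    decide +kernel)
  have hfix : (c * H419.Spor.Co3.inc z * c⁻¹) • Spor.leechU = Spor.leechU := by
    have h1 : c⁻¹ • Spor.leechU = x.1 := by rw [← hc, inv_smul_smul]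
    have h2 : H419.Spor.Co3.inc z • x.1 = x.1 := congrArg Subtype.val hx
    rw [mul_smul, mul_smul, h1, h2, hc]
  let y : Spor.Co2 := ⟨(c * H419.Spor.Co3.inc z * c⁻¹).1, (c * H419.Spor.Co3.inc z * c⁻¹).2, hfix⟩
  have hy : H419.Spor.Co2.inc y = (H419.Spor.Co2.c * c) * H419.Spor.Co3.inc z * (H419.Spor.Co2.c * c)⁻¹ := by
    have h1 : H419.Spor.Co2.inc y = H419.Spor.Co2.c * (c * H419.Spor.Co3.inc z * c⁻¹) * H419.Spor.Co2.c⁻¹ := rfl
    rw [h1]
    group
  refine ⟨y, ?_, ?_⟩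
  · rw [← orderOf_injective H419.Spor.Co2.inc H419.Spor.Co2.inc_injective, hy]
    have h1 := MulEquiv.orderOf_eq (MulAut.conj (H419.Spor.Co2.c * c)) (H419.Spor.Co3.inc z)
    rw [MulAut.conj_apply] at h1
    rw [h1, orderOf_injective H419.Spor.Co3.inc H419.Spor.Co3.inc_injective, hz]
  · have h1 : lchi H419.Spor.Co2.inc y = lchi (MonoidHom.id Co0) (H419.Spor.Co2.inc y) := rfl
    rw [h1, hy, lchi_conj, ht]

/-! ### the characters -/

instance finite_co2 : Finite Spor.Co2 := Nat.finite_of_card_ne_zero (by rw [Co2A.card_co2]; norm_num)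

instance simple_co2 : IsSimpleGroup Spor.Co2 := Cfsg.Agent.Schreier.CoTwoStab.isSimpleGroup

theorem nc : ¬ ∀ a b : Spor.Co2, a * b = b * a := by
  intro h
  let _ : CommGroup Spor.Co2 := { (inferInstance : Group Spor.Co2) with mul_comm := h }
  have h1 : (Nat.card Spor.Co2).Prime := IsSimpleGroup.prime_card
  rw [Co2A.card_co2] at h1
  exact absurd h1 (by norm_num)

instance pretransitive_Y : IsPretransitive Spor.Co2 Co2B.Y := by
  constructor
  intro a b
  obtain ⟨x, rfl⟩ := exists_mk a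
  obtain ⟨y, rfl⟩ := exists_mk b
  obtain ⟨g, rfl⟩ := exists_smul x y
  exact ⟨g, rfl⟩

instance nonempty_Y : Nonempty Co2B.Y := by
  have h : 0 < Nat.card Co2B.Y := by rw [Co2B.card_Y]; norm_num
  exact (Nat.card_pos_iff.1 h).1

theorem dvd_stab (y : Co2B.Y) : 5 ∣ Nat.card (stabilizer Spor.Co2 y) := by
  have h1 : Nat.card (stabilizer Spor.Co2 y) * 2300 = 42305421312000 := by
    rw [← Co2A.card_co2, ← Co2B.card_Y, ← index_stabilizer_of_transitive (G := Spor.Co2) y]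
    exact Subgroup.card_mul_index _
  omega

theorem exists_main : ∃ μ χ : IrrCharacter Spor.Co2,
    (∀ g, lchi H419.Spor.Co2.inc g = 1 + (μ : Spor.Co2 → ℂ) g) ∧
    ∀ g, ((μ : Spor.Co2 → ℂ) g ^ 2 + (μ : Spor.Co2 → ℂ) (g * g)) / 2 = 1 + (χ : Spor.Co2 → ℂ) g := by
  classical
  have := Fintype.ofFinite Spor.Co2
  have := Fintype.ofFinite Co2B.Y
  obtain ⟨χ₁, χ₂, h1, h2, h3⟩ := Co2A.of_R3 Co2A.card_co2 r3
  obtain ⟨μ, hμ⟩ := Co2A.exists_mu
  have hone : charDegree (1 : Spor.Co2 → ℂ) = 1 := by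
    unfold charDegree
    simp
  have hμ1 : (μ : Spor.Co2 → ℂ) ≠ 1 := by
    intro h
    have := mu_deg hμ
    rw [h, hone] at this
    norm_num at this
  refine ⟨μ, χ₂, hμ, fun g => ?_⟩
  refine symSq_eq nc μ (mu_real hμ) (mu_deg hμ) (Y := Co2B.Y) χ₂ h2 χ₁ (fun σ hσ d hd hle => ?_) ?_ ?_ g
  · exact inner_eq_zero hσ hd χ₁ (by rw [h1]; omega)
  · funext g
    rw [Pi.add_apply, Pi.add_apply, Pi.one_apply, pc, h3]
    ring
  · have hmove : ∀ x : Co2B.X, H419.Spor.Co2.inc = H419.Spor.Co2.inc → ∀ γ : Spor.Co2,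
        H419.Spor.Co2.inc γ • H419.Spor.Co2.c • x.1 = H419.Spor.Co2.c • (toCo0 γ • x.1) := by
      intro x _ γ
      show (H419.Spor.Co2.c * toCo0 γ * H419.Spor.Co2.c⁻¹) • H419.Spor.Co2.c • x.1 = _
      rw [mul_smul, mul_smul, inv_smul_smul]
    refine two_le_sq H419.Spor.Co2.inc μ hμ1 hμ (mu_real hμ) (X := Co2B.X) Co2B.mk exists_mk
      (fun g x => (smul_mk g x).symm) ?_ (fun x => H419.Spor.Co2.c • x.1) (fun g x => (hmove x rfl g).symm) ?_ ?_
    · intro g x h
      rcases (Co2B.mk_eq (g • x) x).1 h with h1 | h1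
      · rw [← h1, ← h1]
      · have h2 : g • x = op x := by
          rw [h1, op_op, ← h1]
        rw [h2, smul_op, h2, op_op]
    · intro x
      obtain ⟨γ, hγ⟩ := exists_smul x (op x)
      refine ⟨γ, fun hcon => op_ne x ?_⟩
      rw [← hγ]
      apply Subtype.ext
      rw [hmove x rfl] at hcon
      exact MulAction.injective H419.Spor.Co2.c hcon
    · intro y
      have h5 : Fact (Nat.Prime 5) := ⟨Nat.prime_five⟩
      obtain ⟨g, hg⟩ := exists_prime_orderOf_dvd_card' (G := stabilizer Spor.Co2 y) 5 (dvd_stab y)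
      refine ⟨g, g.2, fun h => ?_⟩
      have h1 : g ^ 2 = 1 := by
        rw [pow_two]
        exact Subtype.ext h
      have h2 := orderOf_dvd_of_pow_eq_one h1
      rw [hg] at h2
      norm_num at h2

theorem main : H620.PNorm.VOrdP 5 Spor.Co2 := by
  obtain ⟨μ, χ, hμ, h⟩ := exists_main
  obtain ⟨y, hy, ht⟩ := exists_trace
  obtain ⟨hpow, -⟩ := trace_five H419.Spor.Co2.inc hy
  have h2 : (μ : Spor.Co2 → ℂ) y = -2 := by
    have h3 := hμ y
    rw [ht] at h3
    linear_combination -h3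
  have h4 : (μ : Spor.Co2 → ℂ) (y * y) = -2 := by
    have h3 := hμ (y ^ 2)
    rw [hpow 2 (by norm_num), ht, pow_two] at h3
    linear_combination -h3
  have h5 := h y
  rw [h2, h4] at h5
  have hv : H713.Van Spor.Co2 y := ⟨χ, by linear_combination -h5⟩
  exact ⟨y, hy, Cfsg.Agent.H419.Count.vz_of_inner hv (Cfsg.Agent.H419.Row.inner_of_out Cfsg.Agent.S2070.result)⟩

end Cfsg.Agent.H678.PV.CoTwoFive

namespace Cfsg.Agent.H678.PV

open Cfsg

/-- **`Co₂`, `p = 5`.** -/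
theorem co2_5 {K : Type u} [Group K] (h : Spor.IsoCo2 K) : H620.PNorm.VOrdP 5 K := by
  obtain ⟨e⟩ := h
  exact CoTwoFive.main.mulEquiv e.symm

end Cfsg.Agent.H678.PV
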