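import Cfsg.Agent.H678.PV.CoSym
import Cfsg.Agent.H843.IMC.Co3A
import Cfsg.Agent.H950.IMC.CoFive
import Cfsg.Agent.H620.PNorm

/-!
# `Co₃`, `p = 5` (helper678)

* `symSq_co3` : `Sym² μ = 1 + θ`, where `μ` has degree 23 and `1 + θ` is the permutation character on 276 points;
* `fix_k5` : the elements of order 5 of `M₂₃` have six fixed points;
* `exists_fix_one` : an element of order 5 in the centre of a Sylow 5-subgroup has exactly one fixed point;
* `co3_5` : so `θ` vanishes there.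
-/

set_option autoImplicit false

universe u

namespace Cfsg.Agent.H678.PV.CoThreeFive

open Cfsg Cfsg.Agent.Characters.Core Cfsg.Agent.H419.LeechIrr Cfsg.Agent.H419.LeechFix MulAction
open Cfsg.Agent.SporadicA.Co0Mono Cfsg.Agent.SporadicA.Co1Simple
open Cfsg.Agent.H843.IMC.Co3A Cfsg.Agent.H707.RowCo3
open Cfsg.Agent.H419.Spor.Co3 (inc inc_injective inc_k k)
open Cfsg.Agent.H713.Spor.RankThree (pc pc_one)
open Cfsg.Agent.H678.PV.CoSym
open scoped ComplexConjugate

/-! ### traces -/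

theorem lchi_real {G : Type*} [Group G] (f : G →* Co0) (g : G) : conj (lchi f g) = lchi f g := by
  show conj (((Cfsg.Agent.Co2Type.Mono.tr8 (f g) : ℤ) : ℂ) / 8) = ((Cfsg.Agent.Co2Type.Mono.tr8 (f g) : ℤ) : ℂ) / 8
  rw [map_div₀, map_intCast, map_ofNat]

theorem lchi_one {G : Type*} [Group G] (f : G →* Co0) : lchi f 1 = 24 := by
  rw [lchi, map_one, Cfsg.Agent.SigZeroCo2.Lin.tr8_one]
  norm_num

theorem lchi_rat {G : Type*} [Group G] (f : G →* Co0) (g : G) : ∃ q : ℚ, lchi f g = q :=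
  ⟨(Cfsg.Agent.Co2Type.Mono.tr8 (f g) : ℚ) / 8, by rw [lchi]; push_cast; rfl⟩

theorem mu_real {G : Type*} [Group G] {f : G →* Co0} {μ : IrrCharacter G}
    (hμ : ∀ g, lchi f g = 1 + (μ : G → ℂ) g) (g : G) : conj ((μ : G → ℂ) g) = (μ : G → ℂ) g := by
  have h1 : (μ : G → ℂ) g = lchi f g - 1 := by rw [hμ]; ring
  rw [h1, map_sub, lchi_real, map_one]

theorem mu_deg {G : Type*} [Group G] [Finite G] {f : G →* Co0} {μ : IrrCharacter G}
    (hμ : ∀ g, lchi f g = 1 + (μ : G → ℂ) g) : charDegree (μ : G → ℂ) = 23 := by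
  have h4 := hμ 1
  rw [lchi_one, Cfsg.Agent.Blocks.Basic.irr_one_eq_charDegree μ.2] at h4
  have : (24 : ℂ) = ((1 + charDegree (μ : G → ℂ) : ℕ) : ℂ) := by rw [h4]; push_cast; ring
  have h9 : 24 = 1 + charDegree (μ : G → ℂ) := by exact_mod_cast this
  omega

/-- The trace of an element of order 5. -/
theorem trace_five {G : Type*} [Group G] (f : G →* Co0) {z : G} (hz : orderOf z = 5) :
    (∀ j : ℕ, ¬ 5 ∣ j → lchi f (z ^ j) = lchi f z) ∧ ∃ (t : ℤ) (d : ℕ), lchi f z = t ∧ 24 + 4 * t = 5 * d := by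
  classical
  have hc : Nat.card (Subgroup.zpowers z) = 5 := by rw [Nat.card_zpowers, hz]
  have hfin : Finite (Subgroup.zpowers z) := Nat.finite_of_card_ne_zero (by rw [hc]; norm_num)
  have := Fintype.ofFinite (Subgroup.zpowers z)
  let zz : Subgroup.zpowers z := ⟨z, Subgroup.mem_zpowers z⟩
  have hch : IsCharacter (Subgroup.zpowers z) (lchi (f.comp (Subgroup.zpowers z).subtype)) := isCharacter_lchi _
  have hpow : ∀ j : ℕ, ¬ 5 ∣ j → lchi f (z ^ j) = lchi f z := by
    intro j hj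
    have h1 : j.Coprime (Nat.card (Subgroup.zpowers z)) := by
      rw [hc]
      exact ((Nat.Prime.coprime_iff_not_dvd Nat.prime_five).2 hj).symm
    exact (Cfsg.Agent.Characters.GaloisBasic.exists_rat_iff hch zz).1 (lchi_rat _ _) j h1
  refine ⟨hpow, ?_⟩
  obtain ⟨t, ht⟩ := Cfsg.Agent.Characters.GaloisBasic.exists_int_of_rat hch zz (lchi_rat _ _)
  have ht' : lchi f z = t := ht
  have h2 := classInner_lchi (f.comp (Subgroup.zpowers z).subtype)
  rw [classInner_def, inv_mul_eq_iff_eq_mul₀ card_ne_zero_complex, hc] at h2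
  refine ⟨t, Module.finrank ℂ (inv (f.comp (Subgroup.zpowers z).subtype)), ht', ?_⟩
  have h3 : ∑ g : Subgroup.zpowers z, lchi (f.comp (Subgroup.zpowers z).subtype) g *
      conj ((1 : Subgroup.zpowers z → ℂ) g) = ∑ g : Subgroup.zpowers z, (fun g : G => lchi f g) (g : G) := by
    refine Finset.sum_congr rfl fun g _ => ?_
    rw [Pi.one_apply, map_one, mul_one]
    rfl
  have : Finite (Subgroup.zpowers z) := hfin
  have h4 : ∑ g : Subgroup.zpowers z, (fun g : G => lchi f g) (g : G) = ∑ k ∈ Finset.range 5, lchi f (z ^ k) := by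
    symm
    refine Finset.sum_bij (fun k _ => (⟨z ^ k, Subgroup.npow_mem_zpowers z k⟩ : Subgroup.zpowers z)) ?_ ?_ ?_ ?_
    · intro k _
      exact Finset.mem_univ _
    · intro k hk l hl hkl
      have h1 : z ^ k = z ^ l := congrArg Subtype.val hkl
      rw [← hz] at hk hl
      exact pow_injOn_Iio_orderOf (Finset.mem_range.1 hk) (Finset.mem_range.1 hl) h1
    · rintro ⟨x, hx⟩ _
      obtain ⟨k, rfl⟩ := Subgroup.mem_zpowers_iff.1 hx
      refine ⟨(k % 5).toNat, ?_, ?_⟩
      · rw [Finset.mem_range]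
        omega
      · apply Subtype.ext
        show z ^ (k % 5).toNat = z ^ k
        rw [← zpow_natCast, Int.toNat_of_nonneg (by omega)]
        have h5 := zpow_mod_orderOf z k
        rw [hz] at h5
        exact_mod_cast h5
    · intro k _
      rfl
  rw [h3, h4, Finset.sum_range_succ, Finset.sum_range_succ, Finset.sum_range_succ, Finset.sum_range_succ,
    Finset.sum_range_succ, Finset.sum_range_zero, hpow 1 (by norm_num), hpow 2 (by norm_num), hpow 3 (by norm_num),
    hpow 4 (by norm_num), pow_zero, lchi_one, ht'] at h2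
  have h5 : ((24 + 4 * t : ℤ) : ℂ) =
      ((5 * (Module.finrank ℂ (inv (f.comp (Subgroup.zpowers z).subtype)) : ℤ) : ℤ) : ℂ) := by
    push_cast
    rw [show (24 : ℂ) + 4 * t = 0 + 24 + t + t + t + t by ring, h2]
    norm_num
  exact_mod_cast h5

/-! ### `Co₃` -/

instance finite_co3 : Finite Spor.Co3 := Nat.finite_of_card_ne_zero (by rw [card_co3]; norm_num)

instance simple_co3 : IsSimpleGroup Spor.Co3 := (Cfsg.Agent.OddHalf.D8.RowCo3.card_of (K := Spor.Co3) ⟨MulEquiv.refl _⟩).1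

theorem nc : ¬ ∀ a b : Spor.Co3, a * b = b * a := by
  intro h
  let _ : CommGroup Spor.Co3 := { (inferInstance : Group Spor.Co3) with mul_comm := h }
  have h1 : (Nat.card Spor.Co3).Prime := IsSimpleGroup.prime_card
  rw [card_co3] at h1
  exact absurd h1 (by norm_num)

instance pretransitive_Y : IsPretransitive Spor.Co3 Y := by
  have h2 := two_trans
  rw [← is_one_pretransitive_iff]
  exact isMultiplyPretransitive_of_le (G := Spor.Co3) (α := Y) (m := 1) (n := 2) (by norm_num)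
    (by rw [card_Y]; norm_num)

instance nonempty_Y : Nonempty Y := by
  have h : 0 < Nat.card Y := by rw [card_Y]; norm_num
  exact (Nat.card_pos_iff.1 h).1

theorem dvd_stab (y : Y) : 5 ∣ Nat.card (stabilizer Spor.Co3 y) := by
  have h1 : Nat.card (stabilizer Spor.Co3 y) * 276 = 495766656000 := by
    rw [← card_co3, ← card_Y, ← index_stabilizer_of_transitive (G := Spor.Co3) y]
    exact Subgroup.card_mul_index _
  omega

/-- The permutation character is the symmetric square of the character of degree 23. -/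
theorem exists_main : ∃ μ θ : IrrCharacter Spor.Co3, (∀ g, lchi inc g = 1 + (μ : Spor.Co3 → ℂ) g) ∧
    (∀ g, (θ : Spor.Co3 → ℂ) g = (Nat.card (fixedBy Y g) : ℂ) - 1) ∧
    ∀ g, ((μ : Spor.Co3 → ℂ) g ^ 2 + (μ : Spor.Co3 → ℂ) (g * g)) / 2 = 1 + (θ : Spor.Co3 → ℂ) g := by
  classical
  have := Fintype.ofFinite Spor.Co3
  obtain ⟨μ, hμ⟩ := exists_mu
  obtain ⟨θ, hθ⟩ := Cfsg.Agent.H419.TwoTrans.exists_irr (G := Spor.Co3) Y two_trans (by rw [card_Y]; norm_num)
  have hθ1 : charDegree (θ : Spor.Co3 → ℂ) = 275 := by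
    refine Cfsg.Agent.H670.PSing.charDegree_eq_of ?_
    rw [hθ 1, fixedBy_one_eq_univ, Nat.card_coe_set_eq, Set.ncard_univ, card_Y]
    norm_num
  have hone : charDegree (1 : Spor.Co3 → ℂ) = 1 := by
    unfold charDegree
    simp
  have hμ1 : (μ : Spor.Co3 → ℂ) ≠ 1 := by
    intro h
    have := mu_deg hμ
    rw [h, hone] at this
    norm_num at this
  refine ⟨μ, θ, hμ, hθ, fun g => ?_⟩
  refine symSq_eq nc μ (mu_real hμ) (mu_deg hμ) (Y := Y) θ hθ1 0 (fun σ _ d _ _ => ?_) ?_ ?_ g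
  · rw [classInner_def]
    simp
  · funext g
    rw [add_zero, Pi.add_apply, Pi.one_apply, hθ, pc]
    ring
  · refine two_le_sq inc μ hμ1 hμ (mu_real hμ) (X := X) (fun x => (Quotient.mk st x : Y)) Quotient.exists_rep
      (fun g x => (smul_mk g x).symm) ?_ (fun x => x.1) (fun g x => rfl) ?_ ?_
    · intro g x h
      rcases (mk_eq (g • x) x).1 h with h1 | h1
      · rw [← h1, ← h1]
      · have h2 : g • x = opp x := by
          rw [h1, opp_opp, ← h1]
        rw [h2, smul_opp, h2, opp_opp]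
    · intro x
      obtain ⟨g, hg⟩ := exists_smul_eq Spor.Co3 x (opp x)
      exact ⟨g, fun h => opp_ne x (hg ▸ Subtype.ext h)⟩
    · intro y
      have h5 : Fact (Nat.Prime 5) := ⟨Nat.prime_five⟩
      obtain ⟨g, hg⟩ := exists_prime_orderOf_dvd_card' (G := stabilizer Spor.Co3 y) 5 (dvd_stab y)
      refine ⟨g, g.2, fun h => ?_⟩
      have h1 : g ^ 2 = 1 := by
        rw [pow_two]
        exact Subtype.ext h
      have h2 := orderOf_dvd_of_pow_eq_one h1
      rw [hg] at h2
      norm_num at h2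

/-! ### elements of order 5 -/

/-- The element of order 5 of `M₂₃`. -/
noncomputable def k5 : Spor.Co3 := k ⟨Cfsg.Agent.H950.IMC.CoFive.y5, by
  show (Cfsg.Agent.H419.Spor.Mathieu.M * cubeTwist) none = none
  decide +kernel⟩

theorem lchi_k5 (j : ℕ) (hj : j ∈ [1, 2, 3, 4]) : lchi inc (k5 ^ j) = 4 := by
  have h := Cfsg.Agent.H950.IMC.CoFive.chi_y5 j hj
  rw [← h, k5, ← map_pow]
  rfl

theorem k5_pow : k5 ^ 5 = 1 := by
  rw [k5, ← map_pow]
  have : (⟨Cfsg.Agent.H950.IMC.CoFive.y5, by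
    show (Cfsg.Agent.H419.Spor.Mathieu.M * cubeTwist) none = none
    decide +kernel⟩ : Cfsg.Agent.H419.LeechFix.St1) ^ 5 = 1 := Subtype.ext Cfsg.Agent.H950.IMC.CoFive.y5_pow
  rw [this, map_one]

theorem order_k5 : orderOf k5 = 5 := by
  have : Fact (Nat.Prime 5) := ⟨Nat.prime_five⟩
  refine orderOf_eq_prime k5_pow fun h => ?_
  have h1 := lchi_k5 1 (by simp)
  rw [pow_one, h, lchi_one] at h1
  norm_num at h1

theorem fix_k5 : Nat.card (fixedBy Y k5) = 6 := by
  obtain ⟨μ, θ, hμ, hθ, h⟩ := exists_main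
  have h1 := h k5
  have h2 : (μ : Spor.Co3 → ℂ) k5 = 3 := by
    have h3 := hμ (k5 ^ 1)
    rw [lchi_k5 1 (by simp), pow_one] at h3
    linear_combination -h3
  have h4 : (μ : Spor.Co3 → ℂ) (k5 * k5) = 3 := by
    have h3 := hμ (k5 ^ 2)
    rw [lchi_k5 2 (by simp), pow_two] at h3
    linear_combination -h3
  rw [h2, h4, hθ] at h1
  have h5 : (Nat.card (fixedBy Y k5) : ℂ) = ((6 : ℕ) : ℂ) := by
    push_cast
    linear_combination -h1
  exact_mod_cast h5

/-- Subgroups of order `p` in a group of order not divisible by `p²`. -/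
theorem conj_zpowers {K : Type*} [Group K] [Finite K] {p : ℕ} [hp : Fact p.Prime] (h : ¬ p ^ 2 ∣ Nat.card K) {x y : K}
    (hx : orderOf x = p) (hy : orderOf y = p) : ∃ g : K, Subgroup.zpowers (g * x * g⁻¹) = Subgroup.zpowers y := by
  have key : ∀ x : K, orderOf x = p → ∃ P : Sylow p K, (P : Subgroup K) = Subgroup.zpowers x := by
    intro x hx
    have h1 : IsPGroup p (Subgroup.zpowers x) := IsPGroup.of_card (n := 1) (by rw [Nat.card_zpowers, hx, pow_one])
    obtain ⟨P, hP⟩ := h1.exists_le_sylow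
    refine ⟨P, (Subgroup.eq_of_le_of_card_ge hP ?_).symm⟩
    obtain ⟨n, hn⟩ := IsPGroup.iff_card.1 P.isPGroup'
    have h2 : n < 2 := by
      by_contra hcon
      push Not at hcon
      exact h ((pow_dvd_pow p hcon).trans (hn ▸ Subgroup.card_subgroup_dvd_card _))
    rw [hn, Nat.card_zpowers, hx]
    calc p ^ n ≤ p ^ 1 := Nat.pow_le_pow_right hp.out.pos (by omega)
      _ = p := pow_one p
  obtain ⟨P, hP⟩ := key x hx
  obtain ⟨Q, hQ⟩ := key y hy
  obtain ⟨g, hg⟩ := exists_smul_eq K P Q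
  refine ⟨g, ?_⟩
  rw [← hQ, ← hg, Sylow.coe_subgroup_smul, hP]
  ext z
  rw [Subgroup.mem_pointwise_smul_iff_inv_smul_mem, Subgroup.mem_zpowers_iff, Subgroup.mem_zpowers_iff]
  refine exists_congr fun n => ?_
  rw [MulAut.smul_def, ← map_inv, MulAut.conj_apply, inv_inv, conj_zpow]
  constructor
  · intro h
    rw [← h]
    group
  · intro h
    rw [h]
    group

theorem fixedBy_eq_of_zpowers {G : Type*} [Group G] (Ω : Type*) [MulAction G Ω] {x y : G}
    (h : Subgroup.zpowers x = Subgroup.zpowers y) : fixedBy Ω x = fixedBy Ω y := by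
  have key : ∀ x y : G, Subgroup.zpowers x = Subgroup.zpowers y → fixedBy Ω x ⊆ fixedBy Ω y := by
    intro x y h a ha
    obtain ⟨n, hn⟩ := Subgroup.mem_zpowers_iff.1 (h ▸ Subgroup.mem_zpowers y : y ∈ Subgroup.zpowers x)
    rw [mem_fixedBy] at ha ⊢
    have h1 : x ∈ stabilizer G a := ha
    have h2 : y ∈ stabilizer G a := hn ▸ Subgroup.zpow_mem _ h1 n
    exact h2
  exact (key x y h).antisymm (key y x h.symm)

/-- Elements of prime order with at least two fixed points in a 2-transitive group. -/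
theorem fix_eq_of_two {G : Type*} [Group G] [Finite G] {Ω : Type*} [MulAction G Ω]
    (h2 : IsMultiplyPretransitive G Ω 2) {p : ℕ} [hp : Fact p.Prime]
    (hex : ∀ a b : Ω, a ≠ b → ¬ p ^ 2 ∣ Nat.card (stabilizer G a ⊓ stabilizer G b : Subgroup G)) {x y : G}
    (hx : orderOf x = p) (hy : orderOf y = p) {a b c d : Ω} (hab : a ≠ b) (hcd : c ≠ d) (ha : x • a = a)
    (hb : x • b = b) (hc : y • c = c) (hd : y • d = d) :
    ∃ g : G, Subgroup.zpowers (g * x * g⁻¹) = Subgroup.zpowers y := by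
  rw [is_two_pretransitive_iff] at h2
  obtain ⟨g, hg1, hg2⟩ := h2 hab hcd
  have hx' : g * x * g⁻¹ ∈ (stabilizer G c ⊓ stabilizer G d : Subgroup G) := by
    constructor
    · show (g * x * g⁻¹) • c = c
      rw [← hg1, mul_smul, mul_smul, inv_smul_smul, ha]
    · show (g * x * g⁻¹) • d = d
      rw [← hg2, mul_smul, mul_smul, inv_smul_smul, hb]
  have hy' : y ∈ (stabilizer G c ⊓ stabilizer G d : Subgroup G) := ⟨hc, hd⟩
  have ho : orderOf (g * x * g⁻¹) = p := by
    rw [← hx]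
    exact MulEquiv.orderOf_eq (MulAut.conj g) x
  obtain ⟨k, hk⟩ := conj_zpowers (hex c d hcd) (x := ⟨g * x * g⁻¹, hx'⟩) (y := ⟨y, hy'⟩)
    (by rw [Subgroup.orderOf_mk]; exact ho) (by rw [Subgroup.orderOf_mk]; exact hy)
  refine ⟨k * g, ?_⟩
  have h3 := congrArg (Subgroup.map (stabilizer G c ⊓ stabilizer G d : Subgroup G).subtype) hk
  rw [MonoidHom.map_zpowers, MonoidHom.map_zpowers] at h3
  have h4 : (k : G) * g * x * ((k : G) * g)⁻¹ = (k : G) * (g * x * g⁻¹) * (k : G)⁻¹ := by group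
  rw [h4]
  exact h3

theorem card_two (a b : Y) (hab : a ≠ b) :
    Nat.card (stabilizer Spor.Co3 a ⊓ stabilizer Spor.Co3 b : Subgroup Spor.Co3) = 6531840 := by
  have h1 := IsMultiplyPretransitive.index_of_fixingSubgroup_mul two_trans (s := {a, b}) (Set.ncard_pair hab)
  have h2 : fixingSubgroup Spor.Co3 ({a, b} : Set Y) = stabilizer Spor.Co3 a ⊓ stabilizer Spor.Co3 b := by
    ext g
    rw [mem_fixingSubgroup_iff, Subgroup.mem_inf, mem_stabilizer_iff, mem_stabilizer_iff]
    simp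
  rw [h2, card_Y] at h1
  have h3 : (276 : ℕ).factorial = 75900 * (276 - 2 : ℕ).factorial := by
    rw [show (276 : ℕ) = 274 + 1 + 1 from rfl, Nat.factorial_succ, Nat.factorial_succ,
      show (274 + 1 + 1 - 2 : ℕ) = 274 from rfl]
    ring
  rw [h3] at h1
  have h4 := Nat.eq_of_mul_eq_mul_right (Nat.factorial_pos _) h1
  have h5 := Subgroup.card_mul_index (stabilizer Spor.Co3 a ⊓ stabilizer Spor.Co3 b)
  rw [h4, card_co3] at h5
  omega

/-- **An element of order 5 with exactly one fixed point.** -/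
theorem exists_fix_one : ∃ z : Spor.Co3, orderOf z = 5 ∧ Nat.card (fixedBy Y z) = 1 := by
  classical
  have hp : Fact (Nat.Prime 5) := ⟨Nat.prime_five⟩
  have hex : ∀ a b : Y, a ≠ b → ¬ 5 ^ 2 ∣ Nat.card (stabilizer Spor.Co3 a ⊓ stabilizer Spor.Co3 b : Subgroup Spor.Co3) := by
    intro a b hab
    rw [card_two a b hab]
    norm_num
  obtain ⟨P⟩ : Nonempty (Sylow 5 Spor.Co3) := inferInstance
  have hPc : Nat.card P = 125 := by
    have h1 : (Nat.card Spor.Co3).factorization 5 = 3 := by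
      rw [card_co3]
      have h1 : (495766656000 : ℕ) = 5 ^ 3 * 3966133248 := by norm_num
      rw [h1, Nat.factorization_mul (by norm_num) (by norm_num), Finsupp.add_apply,
        Nat.Prime.factorization_pow (by norm_num), Finsupp.single_eq_same,
        Nat.factorization_eq_zero_of_not_dvd (by norm_num)]
    rw [P.card_eq_multiplicity, h1]
    norm_num
  have hnt : Nontrivial (P : Subgroup Spor.Co3) := by
    rw [← Finite.one_lt_card_iff_nontrivial, hPc]
    norm_num
  have h2 := P.isPGroup'.center_nontrivial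
  have h3 : 5 ∣ Nat.card (Subgroup.center (P : Subgroup Spor.Co3)) := by
    obtain ⟨k, hk⟩ := (IsPGroup.iff_card.1 (P.isPGroup'.to_subgroup (Subgroup.center (P : Subgroup Spor.Co3))))
    have h4 : 1 < Nat.card (Subgroup.center (P : Subgroup Spor.Co3)) := Finite.one_lt_card_iff_nontrivial.2 h2
    rw [hk] at h4 ⊢
    refine dvd_pow_self 5 ?_
    rintro rfl
    simp at h4
  obtain ⟨y, hy⟩ := exists_prime_orderOf_dvd_card' (G := Subgroup.center (P : Subgroup Spor.Co3)) 5 h3
  set z : Spor.Co3 := ((y : (P : Subgroup Spor.Co3)) : Spor.Co3) with hz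
  have hzo : orderOf z = 5 := by rw [hz, Subgroup.orderOf_coe, Subgroup.orderOf_coe]; exact hy
  have hzP : z ∈ P := (y : (P : Subgroup Spor.Co3)).2
  have hzc : ∀ g ∈ P, g * z = z * g := by
    intro g hg
    have := Subgroup.mem_center_iff.1 y.2 ⟨g, hg⟩
    exact congrArg Subtype.val this
  refine ⟨z, hzo, ?_⟩
  by_contra hne
  -- a fixed point of `P`
  obtain ⟨w, hw⟩ := IsPGroup.nonempty_fixed_point_of_prime_not_dvd_card (P.isPGroup') Y (by rw [card_Y]; norm_num)
  have hzw : z • w = w := hw ⟨z, hzP⟩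
  have hfin : Finite (fixedBy Y z) := inferInstance
  have h5 : 1 < Nat.card (fixedBy Y z) := by
    have h6 : 0 < Nat.card (fixedBy Y z) := Nat.card_pos_iff.2 ⟨⟨⟨w, hzw⟩⟩, hfin⟩
    omega
  obtain ⟨⟨a, ha⟩, hab⟩ : ∃ a : fixedBy Y z, a ≠ ⟨w, hzw⟩ := by
    have := Finite.one_lt_card_iff_nontrivial.1 h5
    exact exists_ne _
  have hab' : w ≠ a := fun h => hab (Subtype.ext h.symm)
  rw [mem_fixedBy] at ha
  -- `z` is conjugate to a power of `k5`
  obtain ⟨⟨c, hc⟩, ⟨d, hd⟩, hcd⟩ : ∃ c d : fixedBy Y k5, c ≠ d := by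
    have : Nontrivial (fixedBy Y k5) := Finite.one_lt_card_iff_nontrivial.1 (by rw [fix_k5]; norm_num)
    exact exists_pair_ne _
  have hcd' : c ≠ d := fun h => hcd (Subtype.ext h)
  rw [mem_fixedBy] at hc hd
  obtain ⟨g, hg⟩ := fix_eq_of_two two_trans hex hzo order_k5 hab' hcd' hzw ha hc hd
  have h6 : Nat.card (fixedBy Y z) = 6 := by
    rw [← fix_k5, ← fixedBy_eq_of_zpowers Y hg]
    refine Nat.card_congr ⟨fun x => ⟨g • x.1, ?_⟩, fun x => ⟨g⁻¹ • x.1, ?_⟩, fun x => ?_, fun x => ?_⟩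
    · rw [mem_fixedBy, mul_smul, mul_smul, inv_smul_smul, x.2]
    · have h7 := x.2
      rw [mem_fixedBy, mul_smul, mul_smul] at h7
      rw [mem_fixedBy, eq_inv_smul_iff]
      exact h7
    · exact Subtype.ext (inv_smul_smul g x.1)
    · exact Subtype.ext (smul_inv_smul g x.1)
  -- the orbit of `a`
  have h7 : (orbit P a).ncard ≤ 5 := by
    have h8 : orbit P a ⊆ (fixedBy Y z) \ {w} := by
      rintro _ ⟨g, rfl⟩
      refine ⟨?_, fun h => hab' ?_⟩
      · show z • (g : Spor.Co3) • a = (g : Spor.Co3) • a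
        rw [← mul_smul, ← hzc g g.2, mul_smul, ha]
      · have h9 : (g : Spor.Co3) • a = w := h
        have h10 : (g : Spor.Co3) • w = w := hw g
        rw [← h10] at h9
        exact (MulAction.injective (g : Spor.Co3) h9).symm
    refine (Set.ncard_le_ncard h8 (Set.toFinite _)).trans ?_
    have h9 : ((fixedBy Y z) \ {w}).ncard + 1 = (fixedBy Y z).ncard :=
      Set.ncard_sdiff_singleton_add_one (by exact hzw) (Set.toFinite _)
    have h10 : (fixedBy Y z).ncard = 6 := h6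
    omega
  have h8 : Nat.card (stabilizer P a) * (orbit P a).ncard = 125 := by
    rw [← index_stabilizer, Subgroup.card_mul_index]
    exact hPc
  obtain ⟨n, hn⟩ := IsPGroup.iff_card.1 (P.isPGroup'.to_subgroup (stabilizer P a))
  have h9 : 2 ≤ n := by
    by_contra hcon
    have h10 : n = 0 ∨ n = 1 := by omega
    rcases h10 with rfl | rfl <;> rw [hn] at h8 <;> omega
  apply hex w a hab'
  have h11 : 5 ^ 2 ∣ Nat.card (stabilizer P a) := by
    rw [hn]
    exact pow_dvd_pow 5 h9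
  refine h11.trans ?_
  rw [Nat.card_congr ((stabilizer P a).equivMapOfInjective (P : Subgroup Spor.Co3).subtype
    Subtype.val_injective).toEquiv]
  refine Subgroup.card_dvd_of_le ?_
  rintro _ ⟨x, hx, rfl⟩
  exact ⟨hw x, hx⟩

/-- **`Co₃`, `p = 5`.** -/
theorem main : H620.PNorm.VOrdP 5 Spor.Co3 := by
  obtain ⟨μ, θ, -, hθ, -⟩ := exists_main
  obtain ⟨z, hz, hfix⟩ := exists_fix_one
  have hv : H713.Van Spor.Co3 z := ⟨θ, by rw [hθ, hfix]; norm_num⟩
  exact ⟨z, hz, Cfsg.Agent.H419.Count.vz_of_inner hv (Cfsg.Agent.H419.Row.inner_of_out Cfsg.Agent.S2071.result)⟩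

end Cfsg.Agent.H678.PV.CoThreeFive

namespace Cfsg.Agent.H678.PV

open Cfsg

/-- **`Co₃`, `p = 5`.** -/
theorem co3_5 {K : Type u} [Group K] (h : Spor.IsoCo3 K) : H620.PNorm.VOrdP 5 K := by
  obtain ⟨e⟩ := h
  exact CoThreeFive.main.mulEquiv e.symm

end Cfsg.Agent.H678.PV
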