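import Cfsg.Agent.H678.PV.Alt
import Cfsg.Agent.H813.CoSevenMain
import Cfsg.Agent.H820.SevenL32
import Cfsg.Agent.S0399

/-!
# `Co1`, `p = 7` (helper678)

An element of order 7 with the centraliser `7 × A₇`, another one with the centraliser `7 × L₃(2)`.
-/

set_option autoImplicit false

namespace Cfsg.Agent.H678.PV

open Cfsg Subgroup
open Cfsg.Agent.H665.NoPQ Cfsg.Agent.H713 Cfsg.Agent.H620.PNorm

universe u

namespace CoSeven

open Cfsg.Agent.CpAutMSeven.RanksH (s0 orderOf_s0)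

theorem card_s0 : Nat.card ↥(centralizer ({s0} : Set Spor.Co1)) = 1176 := by
  have hq := Subgroup.card_eq_card_quotient_mul_card_subgroup (LThreeMB.Zx s0)
  have h1 : Nat.card (↥(centralizer ({s0} : Set Spor.Co1)) ⧸ LThreeMB.Zx s0) = 168 := H820.SevenL32.card_XX
  have h2 : Nat.card ↥(LThreeMB.Zx s0) = 7 := by
    rw [LThreeMB.Zx, Nat.card_zpowers, ← orderOf_s0]
    exact Subgroup.orderOf_mk _ _
  rw [hq, h1, h2]

theorem main : VOrdP 7 Spor.Co1 := by
  have hp : Fact (Nat.Prime 7) := ⟨by norm_num⟩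
  have hc := Cfsg.Agent.S0399.result.2
  have : Finite Spor.Co1 := Nat.finite_of_card_ne_zero (by rw [hc]; norm_num)
  obtain ⟨V, hV, ⟨e⟩⟩ := H813.CoSevenMain.cent_seven
  obtain ⟨v, hv⟩ := exists_prime_orderOf_dvd_card' (G := V) 7 (by rw [hV])
  obtain ⟨x, hx⟩ : ∃ x : Spor.Co1, x = (v : Spor.Co1) := ⟨_, rfl⟩
  have hxo : orderOf x = 7 := by rw [hx, Subgroup.orderOf_coe, hv]
  have hxV : zpowers x = V := by
    refine Subgroup.eq_of_le_of_card_ge (by rw [zpowers_le, hx]; exact v.2) ?_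
    rw [Nat.card_zpowers, hxo, hV]
  have hcx : centralizer (V : Set Spor.Co1) = centralizer ({x} : Set Spor.Co1) := by
    rw [← hxV, H870.IMLocal.centralizer_zpowers]
  rw [hcx] at e
  have hC : Nat.card (centralizer ({x} : Set Spor.Co1)) = 17640 := by
    rw [Nat.card_congr e.toEquiv, Nat.card_prod, card_alt 7 (by norm_num), Nat.card_congr Multiplicative.toAdd,
      Nat.card_zmod]
    rfl
  refine vOrdP_of_im' (x := x) (y := s0) hxo ?_ ?_ orderOf_s0 ?_
  · rw [hC]; norm_num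
  · exact (im_alt 7 (by norm_num) (p := 7) (by norm_num) (by decide)).of_surjective
      ((MonoidHom.snd _ _).comp e.toMonoidHom) (Prod.snd_surjective.comp e.surjective)
  · rw [hC, card_s0]; norm_num

end CoSeven

/-- **`Co1`, `p = 7`.** -/
theorem co1_7 {K : Type u} [Group K] (h : Spor.IsoCo1 K) : VOrdP 7 K := by
  obtain ⟨e⟩ := h
  exact CoSeven.main.mulEquiv e.symm

end Cfsg.Agent.H678.PV
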