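import Cfsg.Agent.H678.PV.Cent
import Cfsg.Agent.H843.IMC.Co3B

/-!
# `Co₃`, `p = 3` (helper678)

An element `x` of order 3 with the centraliser `3 × L₂(8):3`: the character of degree 27 of `C(x)` gives a block with
defect group `⟨x⟩`.
-/

set_option autoImplicit false

universe u

namespace Cfsg.Agent.H678.PV

open Subgroup Cfsg
open Cfsg.Agent.H620.PNorm Cfsg.Agent.H843.IMC

theorem coThreeThree_main : VOrdP 3 Co3B.Gw := by
  have hp : Fact (Nat.Prime 3) := ⟨Nat.prime_three⟩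
  have hfin : Finite Co3B.Gw := Nat.finite_of_card_ne_zero (by rw [Co3B.card_Gw]; norm_num)
  obtain ⟨M, hM⟩ := Cfsg.Agent.Blocks.Knorr.exists_isPModular 3
  have h27 := Co3B.hasDeg_27
  have hnd := Co3B.not_dvd_KK
  rw [Co3B.KK_eq] at h27 hnd
  obtain ⟨θ, hθ⟩ := h27
  have h1 : (Nat.card ↥(Subgroup.centralizer {Co3B.x})).factorization 3 ≤ 4 := by
    by_contra hcon
    exact hnd ((Nat.prime_three.pow_dvd_iff_le_factorization Nat.card_pos.ne').2 (by omega))
  have h2 : (charDegree (θ : ↥(Subgroup.centralizer {Co3B.x}) → ℂ)).factorization 3 = 3 := by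
    rw [hθ, show (27 : ℕ) = 3 ^ 3 by norm_num, Nat.prime_three.factorization_pow]
    simp
  obtain ⟨B, hB, hQ⟩ := exists_block_one hM Co3B.orderOf_x θ (by rw [h2]; exact h1)
  obtain ⟨y, hy, hy2⟩ := exists_central_elt (G := Co3B.Gw) (p := 3) (n := 7) (by rw [Co3B.card_Gw]; norm_num)
    (by rw [Co3B.card_Gw]; norm_num)
  refine ⟨y, hy, vz_of_card_ne hM hB hQ ⟨1, by rw [hy, pow_one]⟩ fun z hz hzo h => ?_⟩
  rw [card_centralizer_zpowers Co3B.orderOf_x hz (hzo.trans hy)] at h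
  exact hnd (h ▸ dvd_trans (pow_dvd_pow 3 (by norm_num)) hy2)

/-- **`Co₃`, `p = 3`.** -/
theorem co3_3 {K : Type u} [Group K] (h : Spor.IsoCo3 K) : VOrdP 3 K := by
  obtain ⟨e⟩ := h
  obtain ⟨f⟩ := Co3B.nonempty_equiv
  have hfin : Finite Co3B.Gw := Nat.finite_of_card_ne_zero (by rw [Co3B.card_Gw]; norm_num)
  exact coThreeThree_main.mulEquiv (e.trans f).symm

end Cfsg.Agent.H678.PV
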