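import Cfsg.Agent.H678.PV.Cent
import Cfsg.Agent.H843.IMC.Co2C

/-!
# `Co₂`, `p = 3` (helper678)

An element `x` of order 3 with the centraliser `3 × U₄(2):2`: the character of degree 81 of `C(x)` gives a block with
defect group `⟨x⟩`.
-/

set_option autoImplicit false

universe u

namespace Cfsg.Agent.H678.PV

open Subgroup Cfsg
open Cfsg.Agent.H620.PNorm Cfsg.Agent.H843.IMC

theorem coTwoThree_main : VOrdP 3 Co2W.Gw := by
  have hp : Fact (Nat.Prime 3) := ⟨Nat.prime_three⟩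
  have hfin : Finite Co2W.Gw := Nat.finite_of_card_ne_zero (by rw [Co2C.card_Gw]; norm_num)
  obtain ⟨M, hM⟩ := Cfsg.Agent.Blocks.Knorr.exists_isPModular 3
  have hdeg : ∃ θ : IrrCharacter ↥Co2W.KK, charDegree (θ : ↥Co2W.KK → ℂ) = 81 := by
    obtain ⟨-, θ, hθ, -⟩ := Co2C.exists_theta
    exact ⟨θ, hθ⟩
  have h1 := Co2C.card_KK
  rw [Co2W.KK_eq] at hdeg h1
  obtain ⟨θ, hθ⟩ := hdeg
  have h2 : (charDegree (θ : ↥(Subgroup.centralizer {Co2W.x}) → ℂ)).factorization 3 = 4 := by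
    rw [hθ, show (81 : ℕ) = 3 ^ 4 by norm_num, Nat.prime_three.factorization_pow]
    simp
  obtain ⟨B, hB, hQ⟩ := exists_block_one hM Co2W.orderOf_x θ (by rw [h2]; exact h1)
  obtain ⟨y, hy, hy2⟩ := exists_central_elt (G := Co2W.Gw) (p := 3) (n := 6) (by rw [Co2C.card_Gw]; norm_num)
    (by rw [Co2C.card_Gw]; norm_num)
  refine ⟨y, hy, vz_of_card_ne hM hB hQ ⟨1, by rw [hy, pow_one]⟩ fun z hz hzo h => ?_⟩
  rw [card_centralizer_zpowers Co2W.orderOf_x hz (hzo.trans hy)] at h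
  have h3 : 6 ≤ (Nat.card ↥(Subgroup.centralizer {Co2W.x})).factorization 3 :=
    (Nat.prime_three.pow_dvd_iff_le_factorization Nat.card_pos.ne').1 (h ▸ hy2)
  omega

/-- **`Co₂`, `p = 3`.** -/
theorem co2_3 {K : Type u} [Group K] (h : Spor.IsoCo2 K) : VOrdP 3 K := by
  obtain ⟨e⟩ := h
  obtain ⟨f⟩ := Co2C.nonempty_equiv
  have hfin : Finite Co2W.Gw := Nat.finite_of_card_ne_zero (by rw [Co2C.card_Gw]; norm_num)
  exact coTwoThree_main.mulEquiv (e.trans f).symm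

end Cfsg.Agent.H678.PV
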