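import Cfsg.Agent.H678.PV.Alt
import Cfsg.Agent.H573.Spor.FiSeven

/-!
# `Fi24'`, `p = 7` (helper678)

An element of order 7 of `Fi24'` whose centraliser maps onto a group containing `A₇`.
-/

set_option autoImplicit false
set_option maxRecDepth 100000

namespace Cfsg.Agent.H678.PV

open Cfsg Subgroup Equiv
open Cfsg.Agent.H665.NoPQ Cfsg.Agent.H713 Cfsg.Agent.H620.PNorm

universe u

/-- A subgroup of a symmetric group containing the products of two transpositions. -/
theorem alt_le_of_swap {n : ℕ} {R : Subgroup (Perm (Fin n))}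
    (h : ∀ i j k l : Fin n, i ≠ j → k ≠ l → swap i j * swap k l ∈ R) : alternatingGroup (Fin n) ≤ R := by
  have key : ∀ m : ℕ, ∀ l : List (Perm (Fin n)), l.length = 2 * m → (∀ g ∈ l, g.IsSwap) → l.prod ∈ R := by
    intro m
    induction m with
    | zero =>
      intro l hl _
      rw [List.length_eq_zero_iff.1 (by omega : l.length = 0), List.prod_nil]
      exact R.one_mem
    | succ m ih =>
      intro l hl hs
      match l, hl, hs with
      | a :: b :: l, hl, hs =>
        rw [List.prod_cons, List.prod_cons, ← mul_assoc]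
        refine R.mul_mem ?_ (ih l (by simp only [List.length_cons] at hl; omega) fun g hg => hs g (by simp [hg]))
        obtain ⟨i, j, hij, rfl⟩ := hs a (by simp)
        obtain ⟨k, l, hkl, rfl⟩ := hs b (by simp)
        exact h i j k l hij hkl
      | [a], hl, _ => simp only [List.length_cons, List.length_nil] at hl; omega
      | [], hl, _ => simp only [List.length_nil] at hl; omega
  intro σ hσ
  obtain ⟨⟨l, hl, hs⟩, -⟩ := (Perm.truncSwapFactors σ).exists_rep
  have h1 : Even l.length := (Perm.prod_list_swap_mem_alternatingGroup_iff_even_length hs).1 (by rw [hl]; exact hσ)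
  obtain ⟨m, hm⟩ := h1
  rw [← hl]
  exact key m l (by omega) hs

/-- A group with a homomorphism to `S_n` whose image contains `A_n`. -/
theorem im_of_perm {C : Type*} [Group C] [Finite C] {n p : ℕ} (hn : 5 ≤ n) (hp : p.Prime) (h1 : p ∣ n.factorial / 2)
    (f : C →* Perm (Fin n)) (h : alternatingGroup (Fin n) ≤ f.range) : H33.IM p C := by
  have : Fact p.Prime := ⟨hp⟩
  have hN : ((alternatingGroup (Fin n)).subgroupOf f.range).Normal := inferInstance
  refine H33.IM.of_surjective f.rangeRestrict f.rangeRestrict_surjective ?_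
  exact H33.IM.of_normal _ ((im_alt n hn hp h1).of_equiv (subgroupOfEquivOfLe h))

namespace FiSeven

open Cfsg.Spor Cfsg.Agent.CpAutFiSeven Cfsg.Agent.H573.Spor.FiSeven
open Cfsg.Agent.R08.FiTwentyFour (L)
open Cfsg.Spor.Fi24 (Gen)

theorem mul_mem_commutator {a b : Fi24} (ha : a ∈ L) (hb : b ∈ L) : a * b ∈ commutator Fi24 := by
  obtain ⟨g, hg⟩ := isConj_L hb ha
  have h1 : b⁻¹ = b := inv_eq_of_mul_eq_one_left (R08.FiTwentyFour.sq hb)
  have h2 : a * b = g * b * g⁻¹ * b⁻¹ := by rw [hg, h1]
  rw [h2]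
  exact Subgroup.commutator_mem_commutator (mem_top g) (mem_top b)

/-- the element -/
noncomputable def xx : Spor.Fi24' := ⟨y0, y0_mem⟩

theorem order_xx : orderOf xx = 7 := by rw [xx, Subgroup.orderOf_mk, orderOf_y0]

theorem im_cent : H33.IM 7 ↥(centralizer ({xx} : Set Spor.Fi24')) := by
  have hfin : Finite Fi24 := R08.FiTwentyFour.finite_Fi24
  have hfin' : Finite Spor.Fi24' := inferInstanceAs (Finite ↥(commutator Fi24))
  let ι : ↥(centralizer ({xx} : Set Spor.Fi24')) →* Fi24 :=
    (commutator Fi24).subtype.comp (centralizer ({xx} : Set Spor.Fi24')).subtype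
  have hι : ∀ g, ι g * y0 = y0 * ι g := fun g => congrArg Subtype.val (mem_centralizer_singleton_iff.1 g.2)
  have hL : ∀ d ∈ L, ∀ g : Fi24, g * d * g⁻¹ ∈ L := fun d hd g => R08.FiTwentyFour.conj hd g
  obtain ⟨f, hf⟩ := tri0.exists_hom hL ι hι
  refine im_of_perm (by norm_num) (by norm_num) (by decide) f (alt_le_of_swap fun i j k l hij hkl => ?_)
  have hm : t0 i j * t0 k l ∈ commutator Fi24 := mul_mem_commutator (tri0.mem i j hij) (tri0.mem k l hkl)
  have hc : (⟨t0 i j * t0 k l, hm⟩ : Spor.Fi24') ∈ centralizer ({xx} : Set Spor.Fi24') := by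
    rw [mem_centralizer_singleton_iff]
    apply Subtype.ext
    show t0 i j * t0 k l * y0 = y0 * (t0 i j * t0 k l)
    calc t0 i j * t0 k l * y0 = t0 i j * (t0 k l * y0) := by group
      _ = t0 i j * (y0 * t0 k l) := by rw [tri0.comm k l hkl]
      _ = (t0 i j * y0) * t0 k l := by group
      _ = (y0 * t0 i j) * t0 k l := by rw [tri0.comm i j hij]
      _ = y0 * (t0 i j * t0 k l) := by group
  refine ⟨⟨_, hc⟩, tri0.perm_unique fun a b hab => ?_⟩
  rw [← hf _ a b hab]
  show t0 i j * t0 k l * t0 a b * (t0 i j * t0 k l)⁻¹ = _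
  rw [Perm.mul_apply, Perm.mul_apply, ← tri0.conj i j _ _ hij (fun h => hab ((swap k l).injective h)),
    ← tri0.conj k l a b hkl hab]
  group

theorem main : VOrdP 7 Spor.Fi24' := by
  have h7 : Fact (Nat.Prime 7) := ⟨by norm_num⟩
  have hfin : Finite Fi24 := R08.FiTwentyFour.finite_Fi24
  have hfin' : Finite Spor.Fi24' := inferInstanceAs (Finite ↥(commutator Fi24))
  have hcard := Cfsg.Agent.S1698.result.2
  refine vOrdP_of_im order_xx ?_ im_cent ?_
  · exact not_cube (F := Fi24) (N := commutator Fi24) (x := ⟨y0, y0_mem⟩) tri0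
      (fun d hd g => R08.FiTwentyFour.conj hd g) (fun d hd => card_cent hd)
  · rw [hcard]; norm_num

end FiSeven

/-- **`Fi24'`, `p = 7`.** -/
theorem fi24_7 {K : Type u} [Group K] (h : Spor.IsoFi24' K) : VOrdP 7 K := by
  obtain ⟨e⟩ := h
  exact FiSeven.main.mulEquiv e.symm

end Cfsg.Agent.H678.PV
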