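import Cfsg.Agent.H678.PV.Aut
import Cfsg.Agent.H299.Two.SuzFam
import Cfsg.Agent.H812.SuzFive
import Cfsg.Agent.H812.FiveKey
import Cfsg.Agent.H678.PV.Alt

/-!
# `Suz`, `p = 5` (helper678)

An element of order 5 with a centraliser of order 300, and one which commutes with an element of order 4.
-/

set_option autoImplicit false
set_option maxRecDepth 100000
set_option exponentiation.threshold 4000

universe u

namespace Cfsg.Agent.H678.PV

open Subgroup Cfsg
open Cfsg.Spor (Suz)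
open Cfsg.Agent.H620.PNorm

namespace SuzFive

open Cfsg.Agent.Lib.PermNet Cfsg.Agent.Lib.PermNetOrbit Cfsg.Agent.SporadicRecognition.SuzPhi
  Cfsg.Agent.SporadicRecognition.SuzBound Cfsg.Agent.SporadicRecognition.SuzOrder
  Cfsg.Agent.SuzThree.Nets Cfsg.Agent.SuzThree.Basic
open Cfsg.Agent.CpAutSuz.Fix Cfsg.Agent.CpAutSuz.Gen
open Cfsg.Agent.SporRec.SuzCl (Fx)

/-- a word of order 20 -/
def w20 : List Suz.Gen := [.a, .e, .a, .f, .g, .c, .b, .c, .d]

noncomputable def s : Suz := el w20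

theorem s20 : s ^ 20 = 1 :=
  eq_of_reps (Rep.pow (Rep.el w20) 20) Rep.one (by decide +kernel)

theorem fx10 : (Fx (s ^ 10)).card = 54 :=
  card_Fx_rep (Rep.pow (Rep.el w20) 10) (by decide +kernel)

theorem fx4 : (Fx (s ^ 4)).card = 12 :=
  card_Fx_rep (Rep.pow (Rep.el w20) 4) (by decide +kernel)

theorem fx1 : (Fx (1 : Suz)).card = 1782 :=
  card_Fx_rep Rep.one (by decide +kernel)

theorem o20 : orderOf s = 20 := by
  apply orderOf_eq_of_pow_and_pow_div_prime (by norm_num) s20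
  intro q hq hd
  have h0 : q ∈ Nat.primeFactors 20 := Nat.mem_primeFactors.2 ⟨hq, hd, by norm_num⟩
  have h1 : Nat.primeFactors 20 = {2, 5} := by decide +kernel
  rw [h1] at h0
  simp only [Finset.mem_insert, Finset.mem_singleton] at h0
  rcases h0 with rfl | rfl
  · intro h
    have := fx10
    rw [show (20 / 2 : ℕ) = 10 from rfl] at h
    rw [h, fx1] at this
    norm_num at this
  · intro h
    have := fx4
    rw [show (20 / 5 : ℕ) = 4 from rfl] at h
    rw [h, fx1] at this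
    norm_num at this

theorem oy : orderOf (s ^ 4) = 5 := by
  rw [orderOf_pow' _ (by norm_num), o20]; rfl

theorem ou : orderOf (s ^ 5) = 4 := by
  rw [orderOf_pow' _ (by norm_num), o20]; rfl

theorem main : VOrdP 5 Suz := by
  have hp5 : Fact (Nat.Prime 5) := ⟨by norm_num⟩
  have hfin : Finite Suz := Nat.finite_of_card_ne_zero (by rw [card_Suz]; norm_num)
  obtain ⟨P⟩ : Nonempty (Sylow 5 Suz) := inferInstance
  have hP25 : Nat.card (P : Subgroup Suz) = 25 := by
    have := J2Type.SylowSeven.card_sylow P 2 17933819904 (by rw [card_Suz]; norm_num) (by norm_num)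
    rw [this]; norm_num
  obtain ⟨g, hg⟩ := J2Type.SylowFive.exists_conj_mem_sylow P (y := H812.SuzLoc.x5) (n := 1)
    (by rw [H812.SuzLoc.order_x5]; norm_num)
  have hgood := H812.SuzFive.good_x5.conj g
  have h300 := H812.FiveKey.card_centralizer hP25 hgood hg
  obtain ⟨h5, hreal, V, hV, hsq, hVw, hc⟩ := hgood
  have hyp := J2Type.CentQuot.hyp_im (p := 5) (by decide) h5 hV hsq hVw hc
  have h60 : Nat.card (J2Type.CentQuot.CQ (g * H812.SuzLoc.x5 * g⁻¹)) = 60 := by
    have := J2Type.CentQuot.card_centralizer_eq (g * H812.SuzLoc.x5 * g⁻¹)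
    rw [h300, h5] at this; omega
  obtain ⟨e⟩ := hyp.equiv_of_card_60 h60
  have hfinQ : Finite (J2Type.CentQuot.CQ (g * H812.SuzLoc.x5 * g⁻¹)) :=
    Nat.finite_of_card_ne_zero (by rw [h60]; norm_num)
  have him : H33.IM 5 (centralizer ({g * H812.SuzLoc.x5 * g⁻¹} : Set Suz)) :=
    H33.IM.of_quotient (J2Type.CentQuot.cyc (g * H812.SuzLoc.x5 * g⁻¹))
      ((im_alt 5 le_rfl (p := 5) (by norm_num) (by decide)).of_equiv e)
  refine vOrdP_of_im'' h5 (by rw [h300]; norm_num) him oy (aut_not_mem h5 oy (u := s ^ 5) ?_ ?_)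
  · rw [← pow_add, ← pow_add]
  intro z hz ho
  rw [ou] at ho
  have hVC : V ≤ centralizer ({g * H812.SuzLoc.x5 * g⁻¹} : Set Suz) := fun v hv =>
    mem_centralizer_singleton_iff.2 (hVw v hv)
  refine no_four (C := ↥(centralizer ({g * H812.SuzLoc.x5 * g⁻¹} : Set Suz)))
    (V.subgroupOf (centralizer ({g * H812.SuzLoc.x5 * g⁻¹} : Set Suz))) ?_ ?_ (by rw [h300]; norm_num)
    ⟨z, mem_centralizer_singleton_iff.2 hz⟩ (by rw [Subgroup.orderOf_mk]; exact ho)
  · rw [Nat.card_congr (subgroupOfEquivOfLe hVC).toEquiv, hV]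
  · intro v hv
    exact Subtype.ext (hsq v (mem_subgroupOf.1 hv))

end SuzFive

/-- **`Suz`, `p = 5`.** -/
theorem suz_5 {K : Type u} [Group K] (h : Spor.IsoSuz K) : VOrdP 5 K := by
  obtain ⟨e⟩ := h
  exact SuzFive.main.mulEquiv e.symm

end Cfsg.Agent.H678.PV
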