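import Cfsg.Agent.H713.Spor.RankThree
import Cfsg.Agent.PermChar.SymAlt
import Cfsg.Agent.Blocks.PrincipalKernel
import Cfsg.Agent.SporadicA.M11CharSimple

/-!
# The symmetric square of the character of degree 23 of `Co₂` and `Co₃` (helper678)

* `two_le_restrict`, `two_le_sq` : the permutation character on pairs of vectors of the Leech lattice has inner product
  at least two with the square of the character;
* `symSq_eq` : hence the symmetric square is `1 + χ`, where `χ` is a constituent of degree 275 of the permutation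
  character.
-/

set_option autoImplicit false

namespace Cfsg.Agent.H678.PV.CoSym

open Cfsg Cfsg.Agent.Characters.Core Cfsg.Agent.H419.LeechIrr MulAction
open Cfsg.Agent.Blocks.ConvCentral (lin lin_def)
open Cfsg.Agent.H713.Spor.RankThree (pc inner_pc_one sum_fixedBy)
open scoped ComplexConjugate

variable {G : Type*} [Group G]

theorem sum_normal {H : Type*} [Group H] [Fintype H] {ψ : H → ℂ} (hψ : IsIrrCharacter H ψ) (N : Subgroup H) [N.Normal]
    [Fintype N] : ∑ n : N, ψ n = 0 ∨ ∀ n ∈ N, ψ n = ψ 1 := by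
  classical
  have h1 : lin ψ ((N : Set H).indicator 1) = ∑ n : N, ψ n := by
    have h2 : ∀ g : H, (N : Set H).indicator (1 : H → ℂ) g * ψ g = if g ∈ N then ψ g else 0 := by
      intro g
      rw [Set.indicator_apply]
      by_cases hg : g ∈ N
      · rw [if_pos (show g ∈ (N : Set H) from hg), if_pos hg, Pi.one_apply, one_mul]
      · rw [if_neg (show ¬ g ∈ (N : Set H) from hg), if_neg hg, zero_mul]
    rw [lin_def, Finset.sum_congr rfl fun g _ => h2 g, ← Finset.sum_filter]
    refine Finset.sum_subtype _ (fun g => ?_) _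
    simp
  rcases Cfsg.Agent.Blocks.PrincipalKernel.sum_normal_eq hψ N with h | h
  · left
    rw [← h1, h]
  · right
    intro n hn
    exact Cfsg.Agent.Blocks.PrincipalKernel.apply_eq_of_lin (isIrr_isCharacter hψ) h hn

/-- The restriction of `μ` to a group with a normal subgroup fixing a vector which is not invariant. -/
theorem two_le_restrict [Fintype G] [IsSimpleGroup G] (f : G →* Co0) (μ : IrrCharacter G) (hμ1 : (μ : G → ℂ) ≠ 1)
    (hμ : ∀ g, lchi f g = 1 + (μ : G → ℂ) g) (H : Subgroup G) (N : Subgroup H) [N.Normal] (hN : ∃ n ∈ N, n ≠ 1)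
    (w : leechLattice) (hw : ∀ n ∈ N, f (n : G) • w = w) (hmove : ∃ g, f g • w ≠ w) [Fintype H] :
    ∃ n : ℕ, 2 ≤ n ∧ classInner (fun h : H => (μ : G → ℂ) h) (fun h : H => (μ : G → ℂ) h) = n := by
  classical
  have := Fintype.ofFinite N
  have hch : IsCharacter H (fun h : H => (μ : G → ℂ) h) := isCharacter_comp H.subtype (isIrr_isCharacter μ.2)
  obtain ⟨n, hn⟩ := classInner_isNat hch hch
  refine ⟨n, ?_, hn⟩
  by_contra hcon
  have hn' : n = 0 ∨ n = 1 := by omega
  rcases hn' with rfl | rfl
  · have h2 := classInner_self_eq_zero (φ := fun h : H => (μ : G → ℂ) h) (by rw [hn]; simp)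
    exact isIrr_apply_one_ne_zero μ.2 (congrFun h2 1)
  · have hirr : IsIrrCharacter H (fun h : H => (μ : G → ℂ) h) := isIrr_of_classInner_self hch (by rw [hn]; simp)
    rcases sum_normal hirr N with h | h
    · -- the space of invariants of `N` has dimension one
      have h1 := classInner_lchi (f.comp (H.subtype.comp N.subtype))
      rw [classInner_def, inv_mul_eq_iff_eq_mul₀ card_ne_zero_complex] at h1
      have h2 : ∑ n : N, lchi (f.comp (H.subtype.comp N.subtype)) n * conj ((1 : N → ℂ) n) = Nat.card N := by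
        have h3 : ∀ n : N, lchi (f.comp (H.subtype.comp N.subtype)) n * conj ((1 : N → ℂ) n) =
            1 + (μ : G → ℂ) ((n : H) : G) := by
          intro n
          rw [Pi.one_apply, map_one, mul_one, ← hμ]
          rfl
        rw [Finset.sum_congr rfl fun n _ => h3 n, Finset.sum_add_distrib, h]
        simp [Nat.card_eq_fintype_card]
      rw [h2] at h1
      have h4 : Module.finrank ℂ (inv (f.comp (H.subtype.comp N.subtype))) = 1 := by
        have h5 : (Nat.card N : ℂ) * 1 = Nat.card N *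
            (Module.finrank ℂ (inv (f.comp (H.subtype.comp N.subtype))) : ℂ) := by rw [mul_one]; exact h1
        have h6 := mul_left_cancel₀ card_ne_zero_complex h5
        exact_mod_cast h6.symm
      have h7 : Module.finrank ℂ (inv f) = 1 := by
        have h8 := classInner_lchi f
        have h9 : lchi f = (1 : G → ℂ) + (μ : G → ℂ) := by
          funext g
          exact hμ g
        rw [h9, classInner_add_left, classInner_irr_self isIrr_one, classInner_irr_ne μ.2 isIrr_one hμ1, add_zero] at h8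
        exact_mod_cast h8.symm
      have hle : inv f ≤ inv (f.comp (H.subtype.comp N.subtype)) := by
        intro u hu
        rw [Representation.mem_invariants] at hu ⊢
        intro n
        exact hu _
      have heq : inv f = inv (f.comp (H.subtype.comp N.subtype)) :=
        Submodule.eq_of_le_of_finrank_eq hle (by rw [h4, h7])
      obtain ⟨g, hg⟩ := hmove
      apply hg
      have h10 : toC w ∈ inv f := by
        rw [heq, toC_mem_inv]
        intro n
        exact hw n n.2
      exact toC_mem_inv.1 h10 g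
    · obtain ⟨m, hm, hm1⟩ := hN
      exact hμ1 (eq_one_of_const μ.2 (fun h1 => hm1 (Subtype.ext h1)) (h m hm))

theorem sq_isCharacter (μ : IrrCharacter G) : IsCharacter G (fun g => (μ : G → ℂ) g ^ 2) := by
  have h := isCharacter_add (Cfsg.Agent.PermChar.SymAlt.isCharacter_symSq (isIrr_isCharacter μ.2))
    (Cfsg.Agent.PermChar.SymAlt.isCharacter_altSq (isIrr_isCharacter μ.2))
  convert h using 1
  funext g
  rw [Pi.add_apply]
  ring

/-- The inner product of the square of `μ` with the permutation character on pairs is at least two. -/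
theorem two_le_sq [Fintype G] [IsSimpleGroup G] (f : G →* Co0) (μ : IrrCharacter G) (hμ1 : (μ : G → ℂ) ≠ 1)
    (hμ : ∀ g, lchi f g = 1 + (μ : G → ℂ) g) (hreal : ∀ g, conj ((μ : G → ℂ) g) = (μ : G → ℂ) g)
    {X Y : Type*} [MulAction G X] [MulAction G Y] [Finite Y] [IsPretransitive G Y] [Nonempty Y]
    (mk : X → Y) (hmk : ∀ y, ∃ x, mk x = y) (hmks : ∀ (g : G) x, mk (g • x) = g • mk x)
    (hsq : ∀ (g : G) x, mk (g • x) = mk x → g • g • x = x)
    (v : X → leechLattice) (hv : ∀ (g : G) x, v (g • x) = f g • v x)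
    (hmove : ∀ x, ∃ g, f g • v x ≠ v x) (hst : ∀ y : Y, ∃ g ∈ stabilizer G y, g * g ≠ 1) :
    ∃ n : ℕ, 2 ≤ n ∧ classInner (fun g => (μ : G → ℂ) g ^ 2) (pc G Y) = n := by
  classical
  have := Fintype.ofFinite Y
  obtain ⟨n, hn⟩ := classInner_isNat (sq_isCharacter μ) (Cfsg.Agent.S0157.isCharacter_fixedBy (G := G) Y)
  change classInner (fun g => (μ : G → ℂ) g ^ 2) (pc G Y) = n at hn
  refine ⟨n, ?_, hn⟩
  -- the stabilizers
  have key : ∀ y : Y, ∃ n : ℕ, 2 * Nat.card (stabilizer G y) ≤ n ∧
      ∑ᶠ g : stabilizer G y, (μ : G → ℂ) (g : G) ^ 2 = n := by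
    intro y
    let N : Subgroup (stabilizer G y) :=
      { carrier := {h | ∀ x, mk x = y → (h : G) • x = x}
        mul_mem' := by
          intro a b ha hb x hx
          show ((a : G) * (b : G)) • x = x
          rw [mul_smul, hb x hx, ha x hx]
        one_mem' := fun x _ => one_smul G x
        inv_mem' := by
          intro a ha x hx
          show (a : G)⁻¹ • x = x
          rw [inv_smul_eq_iff, ha x hx] }
    have hN : N.Normal := by
      constructor
      intro a ha g x hx
      have h1 : mk ((g : G)⁻¹ • x) = y := by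
        rw [hmks, hx, inv_smul_eq_iff]
        exact g.2.symm
      show ((g : G) * (a : G) * (g : G)⁻¹) • x = x
      rw [mul_smul, mul_smul, ha _ h1, smul_inv_smul]
    obtain ⟨g, hg, hgg⟩ := hst y
    obtain ⟨x, hx⟩ := hmk y
    obtain ⟨n, hn2, hn⟩ := two_le_restrict f μ hμ1 hμ (stabilizer G y) N
      ⟨⟨g, hg⟩ * ⟨g, hg⟩, by
        intro z hz
        show (g * g) • z = z
        rw [mul_smul]
        refine hsq g z ?_
        rw [hmks, hz]
        exact hg, fun h => hgg (congrArg Subtype.val h)⟩ (v x)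
      (by
        intro a ha
        rw [← hv, ha x hx]) (hmove x)
    refine ⟨Nat.card (stabilizer G y) * n, by rw [mul_comm 2]; exact Nat.mul_le_mul_left _ hn2, ?_⟩
    rw [classInner_def, inv_mul_eq_iff_eq_mul₀ card_ne_zero_complex] at hn
    rw [finsum_eq_sum_of_fintype]
    push_cast
    rw [← hn]
    refine Finset.sum_congr rfl fun g _ => ?_
    show (μ : G → ℂ) g ^ 2 = (μ : G → ℂ) g * conj ((μ : G → ℂ) g)
    rw [hreal, pow_two]
  choose m hm1 hm2 using key
  have hA := sum_fixedBy (G := G) Y (fun g => (μ : G → ℂ) g ^ 2)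
  rw [Finset.sum_congr rfl fun y _ => hm2 y] at hA
  have hB := sum_fixedBy (G := G) Y (fun _ => (1 : ℂ))
  have hB1 : ∑ g : G, (1 : ℂ) * (Nat.card (fixedBy Y g) : ℂ) = Nat.card G := by
    have h4 := inner_pc_one (G := G) Y
    rw [classInner_def] at h4
    simp only [Pi.one_apply, map_one, mul_one, pc] at h4
    simp only [one_mul]
    rw [inv_mul_eq_iff_eq_mul₀ card_ne_zero_complex, mul_one] at h4
    exact h4
  have hB2 : ∀ y : Y, ∑ᶠ g : stabilizer G y, (1 : ℂ) = (Nat.card (stabilizer G y) : ℂ) := by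
    intro y
    rw [finsum_eq_sum_of_fintype]
    simp [Nat.card_eq_fintype_card]
  rw [hB1, Finset.sum_congr rfl fun y _ => hB2 y] at hB
  have hB3 : Nat.card G = ∑ y : Y, Nat.card (stabilizer G y) := by exact_mod_cast hB
  rw [classInner_def, inv_mul_eq_iff_eq_mul₀ card_ne_zero_complex] at hn
  have hC : ∑ g : G, (μ : G → ℂ) g ^ 2 * (Nat.card (fixedBy Y g) : ℂ) = Nat.card G * n := by
    rw [← hn]
    refine Finset.sum_congr rfl fun g _ => ?_
    rw [pc, Complex.conj_natCast]
  rw [hA] at hC
  have hD : ∑ y : Y, m y = Nat.card G * n := by exact_mod_cast hC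
  have hE : 2 * Nat.card G ≤ Nat.card G * n := by
    rw [← hD]
    conv_lhs => rw [hB3]
    rw [Finset.mul_sum]
    exact Finset.sum_le_sum fun y _ => hm1 y
  have hpos : 0 < Nat.card G := Nat.card_pos
  rw [mul_comm] at hE
  exact Nat.le_of_mul_le_mul_left hE hpos

/-- The multiplicities and degrees of the constituents. -/
theorem exists_mult [Fintype G] {σ : G → ℂ} (hσ : IsCharacter G σ) [Fintype (IrrCharacter G)] :
    ∃ m : IrrCharacter G → ℕ, (∀ g, σ g = ∑ η : IrrCharacter G, (m η : ℂ) * (η : G → ℂ) g) ∧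
      (∀ η : IrrCharacter G, classInner σ η = m η) ∧
      σ 1 = ((∑ η : IrrCharacter G, m η * charDegree (η : G → ℂ) : ℕ) : ℂ) := by
  classical
  obtain ⟨m, hm⟩ := exists_nat_comb hσ
  have hval : ∀ g, σ g = ∑ η : IrrCharacter G, (m η : ℂ) * (η : G → ℂ) g := by
    intro g
    rw [hm]
    simp [Finset.sum_apply]
  refine ⟨m, hval, fun η => ?_, ?_⟩
  · have h1 : σ = ∑ ψ : IrrCharacter G, (m ψ : ℂ) • (ψ : G → ℂ) := by
      funext g
      rw [hval]
      simp [Finset.sum_apply]
    rw [h1, classInner_sum_left, Finset.sum_eq_single η]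
    · rw [classInner_smul_left, classInner_irr_self η.2, mul_one]
    · intro ψ _ hψ
      rw [classInner_smul_left, classInner_irr_ne ψ.2 η.2 (fun h => hψ (Subtype.ext h)), mul_zero]
    · intro h
      exact absurd (Finset.mem_univ _) h
  · rw [hval]
    push_cast
    exact Finset.sum_congr rfl fun η _ => by rw [Cfsg.Agent.Blocks.Basic.irr_one_eq_charDegree η.2]

/-- A character has no constituents of larger degree. -/
theorem inner_eq_zero [Fintype G] {σ : G → ℂ} (hσ : IsCharacter G σ) {d : ℕ} (hd : σ 1 = d) (η : IrrCharacter G)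
    (h : d < charDegree (η : G → ℂ)) : classInner σ η = 0 := by
  classical
  have : Finite (IrrCharacter G) := finite_irr
  have := Fintype.ofFinite (IrrCharacter G)
  obtain ⟨m, -, h2, h3⟩ := exists_mult hσ
  rw [h2 η]
  rw [hd] at h3
  have h4 : d = ∑ η : IrrCharacter G, m η * charDegree (η : G → ℂ) := by exact_mod_cast h3
  have h5 : m η * charDegree (η : G → ℂ) ≤ d := by
    rw [h4]
    exact Finset.single_le_sum (f := fun η : IrrCharacter G => m η * charDegree (η : G → ℂ))
      (fun _ _ => Nat.zero_le _) (Finset.mem_univ η)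
  have h6 : m η = 0 := by
    by_contra h0
    have h7 : 1 * charDegree (η : G → ℂ) ≤ m η * charDegree (η : G → ℂ) :=
      Nat.mul_le_mul_right _ (Nat.pos_of_ne_zero h0)
    omega
  rw [h6, Nat.cast_zero]

/-- A character of degree `χ(1) + 1` containing `χ` is `1 + χ`. -/
theorem eq_one_add [Fintype G] [IsSimpleGroup G] (hnc : ¬ ∀ a b : G, a * b = b * a) {σ : G → ℂ}
    (hσ : IsCharacter G σ) (χ : IrrCharacter G) (hd : σ 1 = ((charDegree (χ : G → ℂ) + 1 : ℕ) : ℂ))
    (h2 : 1 < charDegree (χ : G → ℂ)) (hin : classInner σ χ ≠ 0) (g : G) : σ g = 1 + (χ : G → ℂ) g := by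
  classical
  have : Finite (IrrCharacter G) := finite_irr
  have := Fintype.ofFinite (IrrCharacter G)
  obtain ⟨m, hval, hm, h3⟩ := exists_mult hσ
  rw [hd] at h3
  have h4 : charDegree (χ : G → ℂ) + 1 = ∑ η : IrrCharacter G, m η * charDegree (η : G → ℂ) := by exact_mod_cast h3
  have h5 := Finset.add_sum_erase Finset.univ (fun η : IrrCharacter G => m η * charDegree (η : G → ℂ))
    (Finset.mem_univ χ)
  rw [← h4] at h5
  have h6 : m χ ≠ 0 := by
    intro h0
    apply hin
    rw [hm, h0, Nat.cast_zero]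
  have h7 : m χ = 1 := by
    rcases Nat.lt_or_ge (m χ) 2 with h | h
    · omega
    · have : 2 * charDegree (χ : G → ℂ) ≤ m χ * charDegree (χ : G → ℂ) := Nat.mul_le_mul_right _ h
      omega
  have h8 : ∑ η ∈ Finset.univ.erase χ, m η * charDegree (η : G → ℂ) = 1 := by
    rw [h7, one_mul] at h5
    omega
  obtain ⟨ξ, hξ, hξ0⟩ : ∃ ξ ∈ Finset.univ.erase χ, m ξ * charDegree (ξ : G → ℂ) ≠ 0 := by
    apply Finset.exists_ne_zero_of_sum_ne_zero
    rw [h8]
    norm_num
  have h9 := Finset.add_sum_erase (Finset.univ.erase χ)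
    (fun η : IrrCharacter G => m η * charDegree (η : G → ℂ)) hξ
  rw [h8] at h9
  have h10 : m ξ * charDegree (ξ : G → ℂ) = 1 := by omega
  have h11 : ∀ η ∈ (Finset.univ.erase χ).erase ξ, m η = 0 := by
    intro η hη
    have h12 : ∑ η ∈ (Finset.univ.erase χ).erase ξ, m η * charDegree (η : G → ℂ) = 0 := by omega
    have h13 := (Finset.sum_eq_zero_iff.1 h12) η hη
    rcases Nat.mul_eq_zero.1 h13 with h | h
    · exact h
    · have := Cfsg.Agent.Blocks.Basic.charDegree_pos η.2
      omega
  have h14 : (ξ : G → ℂ) = 1 := by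
    refine Cfsg.Agent.SporadicA.M11CharSimple.eq_one_of_degree_one hnc ξ.2 ?_
    rw [Cfsg.Agent.Blocks.Basic.irr_one_eq_charDegree ξ.2, Nat.eq_one_of_mul_eq_one_left h10, Nat.cast_one]
  rw [hval, ← Finset.add_sum_erase _ _ (Finset.mem_univ χ), ← Finset.add_sum_erase _ _ hξ,
    Finset.sum_eq_zero (s := (Finset.univ.erase χ).erase ξ) (fun η hη => by rw [h11 η hη, Nat.cast_zero, zero_mul]), h7,
    Nat.eq_one_of_mul_eq_one_right h10, h14, Pi.one_apply]
  push_cast
  ring

/-- **The symmetric square of `μ`**, if the permutation character on `Y` is `1 + χ + R` and `R` is orthogonal to the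
characters of degree at most 276. -/
theorem symSq_eq [Fintype G] [IsSimpleGroup G] (hnc : ¬ ∀ a b : G, a * b = b * a) (μ : IrrCharacter G)
    (hreal : ∀ g, conj ((μ : G → ℂ) g) = (μ : G → ℂ) g) (h23 : charDegree (μ : G → ℂ) = 23)
    {Y : Type*} [MulAction G Y] (χ : IrrCharacter G) (h275 : charDegree (χ : G → ℂ) = 275) (R : G → ℂ)
    (hR : ∀ σ : G → ℂ, IsCharacter G σ → ∀ d : ℕ, σ 1 = d → d ≤ 276 → classInner σ R = 0)
    (hY : pc G Y = 1 + (χ : G → ℂ) + R)
    (hge : ∃ n : ℕ, 2 ≤ n ∧ classInner (fun g => (μ : G → ℂ) g ^ 2) (pc G Y) = n) (g : G) :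
    ((μ : G → ℂ) g ^ 2 + (μ : G → ℂ) (g * g)) / 2 = 1 + (χ : G → ℂ) g := by
  classical
  have h1 : (μ : G → ℂ) 1 = 23 := by
    rw [Cfsg.Agent.Blocks.Basic.irr_one_eq_charDegree μ.2, h23]
    norm_num
  set S : G → ℂ := fun g => ((μ : G → ℂ) g ^ 2 + (μ : G → ℂ) (g * g)) / 2 with hS
  set A : G → ℂ := fun g => ((μ : G → ℂ) g ^ 2 - (μ : G → ℂ) (g * g)) / 2 with hA
  have hSc : IsCharacter G S := Cfsg.Agent.PermChar.SymAlt.isCharacter_symSq (isIrr_isCharacter μ.2)
  have hAc : IsCharacter G A := Cfsg.Agent.PermChar.SymAlt.isCharacter_altSq (isIrr_isCharacter μ.2)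
  have hS1 : S 1 = ((276 : ℕ) : ℂ) := by
    rw [hS]
    simp only [mul_one, h1]
    norm_num
  have hA1 : A 1 = ((253 : ℕ) : ℂ) := by
    rw [hA]
    simp only [mul_one, h1]
    norm_num
  have hsq : (fun g => (μ : G → ℂ) g ^ 2) = S + A := by
    funext g
    rw [Pi.add_apply, hS, hA]
    ring
  have hone : classInner (S + A) (1 : G → ℂ) = 1 := by
    rw [← hsq, ← classInner_irr_self μ.2, classInner_def, classInner_def]
    congr 1
    refine Finset.sum_congr rfl fun g _ => ?_
    rw [hreal, Pi.one_apply, map_one, mul_one, pow_two]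
  obtain ⟨n, hn2, hn⟩ := hge
  rw [hsq, hY, classInner_add_right, classInner_add_right, hone, classInner_add_left, classInner_add_left,
    hR S hSc 276 hS1 le_rfl, hR A hAc 253 hA1 (by norm_num),
    inner_eq_zero hAc hA1 χ (by rw [h275]; norm_num)] at hn
  have hin : classInner S χ ≠ 0 := by
    intro h0
    rw [h0] at hn
    have h2 : ((1 : ℕ) : ℂ) = n := by
      rw [← hn]
      push_cast
      ring
    have h3 : 1 = n := by exact_mod_cast h2
    omega
  exact eq_one_add hnc hSc χ (by rw [hS1, h275]) (by rw [h275]; norm_num) hin g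

end Cfsg.Agent.H678.PV.CoSym
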