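import Cfsg.Agent.H678.PV.BlkVan
import Cfsg.Agent.H761.LieExt

/-!
# Rows of S4555 / S4559 from one centraliser (helper678)

`x` of order `p`, not central in a Sylow subgroup, `K ≤ C(x)` normalised by `C(x)` with a character of defect zero,
`|C(x)|_p ≤ p |K|_p`: then `VOrdP p G`.

* `exists_central_elt` : an element `y` of order `p` with `|C(y)|_p = |G|_p`;
* `vOrdP_of_noncentral` : the row with `K ≤ C(x)`;
* `vOrdP_of_quot` : the row with a character of defect zero of `C(x) / Z`, `Z = ⟨x⟩`;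
* `hasDZ_lie` : the Steinberg character.
-/

set_option autoImplicit false

namespace Cfsg.Agent.H678.PV

open Cfsg Subgroup
open Cfsg.Agent.Characters.Core Cfsg.Agent.Blocks.Basic Cfsg.Agent.Blocks.Local
open Cfsg.Agent.H665.NoPQ Cfsg.Agent.H713 Cfsg.Agent.H620.PNorm

universe u

/-- The Steinberg character. -/
theorem hasDZ_lie {p : ℕ} (hp : p.Prime) {S : Type u} [Group S] [Finite S] [IsSimpleGroup S]
    (hna : ¬ IsMulCommutative S) (h : IsLieTypeChar p S) : HasDZ p S := by
  have : Fact p.Prime := ⟨hp⟩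
  obtain ⟨θ, h1, -⟩ := Cfsg.Agent.H761.LieExt.lie_ext hna h
  refine ⟨θ, ?_⟩
  rw [h1, Nat.factorization_pow, Finsupp.smul_apply, hp.factorization_self, smul_eq_mul, mul_one]

variable {G : Type u} [Group G] [Finite G] {p : ℕ} [hp : Fact p.Prime] {M : Ideal AlgInt}

/-- An element of order `p` in the centre of a Sylow subgroup. -/
theorem exists_central_elt {n : ℕ} (hd : p ∣ Nat.card G) (hn : p ^ n ∣ Nat.card G) :
    ∃ y : G, orderOf y = p ∧ p ^ n ∣ Nat.card (centralizer ({y} : Set G)) := by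
  obtain ⟨P⟩ : Nonempty (Sylow p G) := inferInstance
  have h1 : Nat.card P = p ^ (Nat.card G).factorization p := P.card_eq_multiplicity
  have h0 : 1 ≤ (Nat.card G).factorization p := by
    rw [← hp.out.dvd_iff_one_le_factorization Nat.card_pos.ne']
    exact hd
  have hnt : Nontrivial (P : Subgroup G) := by
    rw [← Finite.one_lt_card_iff_nontrivial, h1]
    exact Nat.one_lt_pow (by omega) hp.out.one_lt
  have h2 := P.isPGroup'.center_nontrivial
  have h3 : p ∣ Nat.card (center (P : Subgroup G)) := by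
    obtain ⟨k, hk⟩ := (IsPGroup.iff_card.1 (P.isPGroup'.to_subgroup (center (P : Subgroup G))))
    have h4 : 1 < Nat.card (center (P : Subgroup G)) := Finite.one_lt_card_iff_nontrivial.2 h2
    rw [hk] at h4 ⊢
    refine dvd_pow_self p ?_
    rintro rfl
    simp at h4
  obtain ⟨y, hy⟩ := exists_prime_orderOf_dvd_card' (G := center (P : Subgroup G)) p h3
  refine ⟨((y : (P : Subgroup G)) : G), by rw [Subgroup.orderOf_coe, Subgroup.orderOf_coe]; exact hy, ?_⟩
  have h5 : (P : Subgroup G) ≤ centralizer ({((y : (P : Subgroup G)) : G)} : Set G) := by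
    intro z hz
    rw [mem_centralizer_singleton_iff]
    have h6 := mem_center_iff.1 y.2 ⟨z, hz⟩
    exact congrArg Subtype.val h6
  refine Dvd.dvd.trans ?_ (card_dvd_of_le h5)
  show p ^ n ∣ Nat.card P
  rw [h1]
  exact pow_dvd_pow p ((hp.out.pow_dvd_iff_le_factorization Nat.card_pos.ne').1 hn)

/-- **Row from one centraliser**. -/
theorem vOrdP_of_noncentral {x : G} (hx : orderOf x = p) {K : Subgroup G}
    (hK : K ≤ centralizer ({x} : Set G)) (hn : ∀ c ∈ centralizer ({x} : Set G), ∀ k ∈ K, c * k * c⁻¹ ∈ K)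
    (hdz : HasDZ p K)
    (hcard : (Nat.card (centralizer ({x} : Set G))).factorization p ≤ (Nat.card K).factorization p + 1)
    {n : ℕ} (hG : p ^ n ∣ Nat.card G) (hC : ¬ p ^ n ∣ Nat.card (centralizer ({x} : Set G))) : VOrdP p G := by
  obtain ⟨y, hy, hy2⟩ := exists_central_elt (p := p) (n := n) (hx ▸ orderOf_dvd_natCard x) hG
  exact vOrdP_of_cent hx hK hn hdz hcard hy fun h => hC (h ▸ hy2)

/-- **Row from an epimorphic image of one centraliser**: `f : C(x) → X` onto, `|ker f|_p ≤ p`, `X` with a character of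
defect zero. -/
theorem vOrdP_of_hom {x : G} (hx : orderOf x = p) {X : Type*} [Group X] [Finite X]
    (f : ↥(centralizer ({x} : Set G)) →* X) (hf : Function.Surjective f)
    (hker : (Nat.card f.ker).factorization p ≤ 1) (hdz : HasDZ p X)
    {n : ℕ} (hG : p ^ n ∣ Nat.card G) (hC : ¬ p ^ n ∣ Nat.card (centralizer ({x} : Set G))) : VOrdP p G := by
  obtain ⟨y, hy, hy2⟩ := exists_central_elt (p := p) (n := n) (hx ▸ orderOf_dvd_natCard x) hG
  obtain ⟨M, hM⟩ := Cfsg.Agent.Blocks.Knorr.exists_isPModular p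
  obtain ⟨χ, hχ⟩ := hdz
  have h1 : charDegree ((χ : X → ℂ) ∘ f) = charDegree (χ : X → ℂ) := by
    rw [charDegree_def, charDegree_def]
    simp
  have h2 : Nat.card ↥(centralizer ({x} : Set G)) = Nat.card X * Nat.card f.ker := by
    rw [Subgroup.card_eq_card_quotient_mul_card_subgroup f.ker,
      Nat.card_congr (QuotientGroup.quotientKerEquivOfSurjective f hf).toEquiv]
  obtain ⟨B, hB, hQ⟩ := exists_block_one hM hx
    ⟨_, Cfsg.Agent.Characters.Core.isIrr_comp f hf χ.2⟩ (by
      show _ ≤ (charDegree ((χ : X → ℂ) ∘ f)).factorization p + 1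
      rw [h1, hχ, h2, Nat.factorization_mul Nat.card_pos.ne' Nat.card_pos.ne', Finsupp.add_apply]
      omega)
  refine ⟨y, hy, vz_of_card_ne hM hB hQ ⟨1, by rw [hy, pow_one]⟩ fun z hz hzo h => ?_⟩
  rw [card_centralizer_zpowers hx hz (hzo.trans hy)] at h
  exact hC (h ▸ hy2)

end Cfsg.Agent.H678.PV
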