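import Cfsg.Agent.H678.PV.Simp
import Cfsg.Agent.H834.WidthAD
import Cfsg.Agent.H834.MainAD
import Cfsg.Agent.OrdDiv.Table
import Cfsg.Agent.S0000

/-!
# `Fi22`, `p = 3` (helper678)

The product `x` of two noncommuting transpositions `a`, `b` has the centraliser `⟨x⟩ × C(a, b)`, and `C(a, b) ≅ U₄(3).2` is
generated by 126 transpositions.
-/

set_option autoImplicit false
set_option maxRecDepth 100000
set_option exponentiation.threshold 5000

namespace Cfsg.Agent.H678.PV

open Cfsg Subgroup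
open scoped commutatorElement
open Cfsg.Agent.H665.NoPQ Cfsg.Agent.H713 Cfsg.Agent.H620.PNorm

universe u

theorem card_le_of_conj {G : Type u} [Group G] [Finite G] (C : Subgroup G) (t : G) (S : Finset G)
    (h : ∀ g ∈ C, g * t * g⁻¹ ∈ S) : Nat.card C ≤ S.card * Nat.card ↥(C ⊓ centralizer ({t} : Set G)) := by
  classical
  let r : G → G := fun s => if hs : ∃ g ∈ C, g * t * g⁻¹ = s then hs.choose else 1
  have hr : ∀ g ∈ C, r (g * t * g⁻¹) ∈ C ∧ r (g * t * g⁻¹) * t * (r (g * t * g⁻¹))⁻¹ = g * t * g⁻¹ := by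
    intro g hg
    have hs : ∃ k ∈ C, k * t * k⁻¹ = g * t * g⁻¹ := ⟨g, hg, rfl⟩
    have h1 : r (g * t * g⁻¹) = hs.choose := dif_pos hs
    rw [h1]
    exact hs.choose_spec
  let f : C → S × ↥(C ⊓ centralizer ({t} : Set G)) := fun g =>
    (⟨(g : G) * t * (g : G)⁻¹, h g g.2⟩, ⟨(r ((g : G) * t * (g : G)⁻¹))⁻¹ * g, by
      obtain ⟨h1, h2⟩ := hr g g.2
      refine ⟨C.mul_mem (C.inv_mem h1) g.2, mem_centralizer_singleton_iff.2 ?_⟩
      set k := r ((g : G) * t * (g : G)⁻¹)
      have h3 : t * (k⁻¹ * g) = k⁻¹ * (k * t * k⁻¹) * g := by group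
      rw [h3, h2]; group⟩)
  have hf : Function.Injective f := by
    intro a b hab
    have h1 : (a : G) * t * (a : G)⁻¹ = (b : G) * t * (b : G)⁻¹ := congrArg Subtype.val (congrArg Prod.fst hab)
    have h2 : (r ((a : G) * t * (a : G)⁻¹))⁻¹ * (a : G) = (r ((b : G) * t * (b : G)⁻¹))⁻¹ * (b : G) :=
      congrArg Subtype.val (congrArg Prod.snd hab)
    rw [h1] at h2
    exact Subtype.ext (mul_left_cancel h2)
  have h1 := Nat.card_le_card_of_injective f hf
  rwa [Nat.card_prod, Nat.card_eq_fintype_card (α := S), Fintype.card_coe] at h1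

namespace FiTwo

open Cfsg.Spor Cfsg.Spor.Fi22 Cfsg.Agent.Lib.PermNet Cfsg.Agent.Lib.PermNetOrbit Cfsg.Agent.Lib.PermNetFix
open Cfsg.Agent.Fischer Cfsg.Agent.Fischer.Fi22PtsRep
open Cfsg.Agent.H834 Cfsg.Agent.H834.AD Cfsg.Agent.H834.Model

variable {G : Type u} [Group G] {D : Set G} (m : Model G D)

theorem b16 : F.testBit 16 = true := by decide +kernel
theorem b40 : F.testBit 40 = true := by decide +kernel
theorem b43 : F.testBit 43 = true := by decide +kernel
theorem b88 : F.testBit 88 = true := by decide +kernel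

theorem t16 : m.t 16 = m.wd [.d] := m.t_gp .d
theorem t40 : m.t 40 = m.wd [.e] := m.t_gp .e
theorem t43 : m.t 43 = m.wd [.h] := m.t_gp .h
theorem t88 : m.t 88 = m.wd [.f] := m.t_gp .f

theorem ne_16_40 : m.t 16 * m.t 40 ≠ m.t 40 * m.t 16 := by
  intro h
  have h1 := (m.comm_iff (m.t 16) (p := 40) (by norm_num)).1 h
  rw [t16, m.φ_wd_apply] at h1
  revert h1
  decide +kernel

theorem ne_40_88 : m.t 40 * m.t 88 ≠ m.t 88 * m.t 40 := by
  intro h
  have h1 := (m.comm_iff (m.t 40) (p := 88) (by norm_num)).1 h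
  rw [t40, m.φ_wd_apply] at h1
  revert h1
  decide +kernel

theorem ne_16_43 : m.t 16 * m.t 43 ≠ m.t 43 * m.t 16 := by
  intro h
  have h1 := (m.comm_iff (m.t 16) (p := 43) (by norm_num)).1 h
  rw [t16, m.φ_wd_apply] at h1
  revert h1
  decide +kernel

theorem comm_43_88 : m.t 43 * m.t 88 = m.t 88 * m.t 43 := by
  rw [t43, t88]; exact m.gen_comm (by decide)

/-- a normal subgroup of `C(a, b)` contains the products of the transpositions -/
theorem prod_mem {N : Subgroup G} (hle : N ≤ m.KF) (hc : ∀ k ∈ m.KF, ∀ n ∈ N, k * n * k⁻¹ ∈ N) (hne : N ≠ ⊥)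
    {p q : ℕ} (hp : F.testBit p = true) (hq : F.testBit q = true) : m.t p * m.t q ∈ N := by
  obtain ⟨⟨n, hn⟩, hx⟩ := (Subgroup.ne_bot_iff_exists_ne_one).1 hne
  have hn1 : n ≠ 1 := fun h => hx (Subtype.ext h)
  have hnK := hle hn
  have hcent := m.KF_le hnK
  rw [mem_centralizer_iff] at hcent
  obtain ⟨p0, hp0, hne0⟩ : ∃ p, F.testBit p = true ∧ n * m.t p ≠ m.t p * n := by
    by_contra hcon
    push Not at hcon
    exact hn1 (m.eq_one_of_comm_F (hcent _ (by simp)).symm (hcent _ (by simp)).symm fun p _ hp => hcon p hp)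
  have hp0l := AD.F_lt hp0
  have hq0 := m.KF_F hnK hp0
  set q0 := m.φ n p0 with hq0def
  have hq0l := AD.F_lt hq0
  have hne1 : q0 ≠ p0 := fun h => hne0 ((m.comm_iff n hp0l).2 h)
  have hconj : ∀ k ∈ m.KF, ∀ a b : ℕ, a < 3510 → b < 3510 → m.t a * m.t b ∈ N → m.t (m.φ k a) * m.t (m.φ k b) ∈ N := by
    intro k hk a b ha hb h
    have h1 := hc k hk _ h
    rw [← m.conj_t k ha, ← m.conj_t k hb]
    have h2 : k * m.t a * k⁻¹ * (k * m.t b * k⁻¹) = k * (m.t a * m.t b) * k⁻¹ := by group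
    rwa [h2]
  have hm : m.t q0 * m.t p0 ∈ N := by
    have h1 := hc _ (m.t_mem_KF hp0l hp0) _ (N.inv_mem hn)
    have h2 := N.mul_mem hn h1
    have h3 : n * (m.t p0 * n⁻¹ * (m.t p0)⁻¹) = m.t q0 * m.t p0 := by
      rw [← m.conj_t n hp0l, m.t_inv hp0l]; group
    rwa [h3] at h2
  obtain ⟨a, b, ha, hb, hab, habN⟩ : ∃ a b, F.testBit a = true ∧ F.testBit b = true ∧
      m.t a * m.t b ≠ m.t b * m.t a ∧ m.t a * m.t b ∈ N := by
    by_cases hcm : m.t q0 * m.t p0 = m.t p0 * m.t q0
    · obtain ⟨k, hk, h1, h2⟩ := m.KF_trans45 hq0 hp0 hne1 hcm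
      have h3 : m.t 16 * m.t 88 ∈ N := by
        have h4 := hc _ (m.KF.inv_mem hk) _ hm
        have h5 : k⁻¹ * (m.t q0 * m.t p0) * k⁻¹⁻¹ = m.t 16 * m.t 88 := by
          rw [← h1, ← h2, ← m.conj_t k (by norm_num), ← m.conj_t k (by norm_num)]; group
        rwa [h5] at h4
      refine ⟨16, 43, b16, b43, ne_16_43 m, ?_⟩
      have h4 := hc _ (m.t_mem_KF (by norm_num) b43) _ h3
      have h5 := N.mul_mem h4 (N.inv_mem h3)
      have i43 := m.t_inv (p := 43) (by norm_num)
      have i16 := m.t_inv (p := 16) (by norm_num)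
      have s16 := m.t_sq (p := 16) (by norm_num)
      have br := m.braid (p := 43) (q := 16) (by norm_num) (by norm_num) (ne_16_43 m).symm
      have h6 : m.t 43 * (m.t 16 * m.t 88) * (m.t 43)⁻¹ * (m.t 16 * m.t 88)⁻¹ = m.t 16 * m.t 43 := by
        calc m.t 43 * (m.t 16 * m.t 88) * (m.t 43)⁻¹ * (m.t 16 * m.t 88)⁻¹
            = m.t 43 * m.t 16 * (m.t 88 * (m.t 43)⁻¹ * (m.t 88)⁻¹) * (m.t 16)⁻¹ := by group
          _ = m.t 43 * m.t 16 * m.t 43 * m.t 16 := by
            rw [i43, ← comm_43_88 m, mul_inv_cancel_right, i16]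
          _ = m.t 16 * m.t 43 * (m.t 16 * m.t 16) := by rw [br]; group
          _ = m.t 16 * m.t 43 := by rw [s16, mul_one]
      rwa [h6] at h5
    · exact ⟨q0, p0, hq0, hp0, hcm, hm⟩
  have hN : ∀ c d, F.testBit c = true → F.testBit d = true → m.t c * m.t d ≠ m.t d * m.t c → m.t c * m.t d ∈ N := by
    intro c d hcF hdF hcd
    obtain ⟨k, hk, h1, h2⟩ := m.KF_transN ha hb hcF hdF hab hcd
    have h3 := hconj k hk a b (AD.F_lt ha) (AD.F_lt hb) habN
    rwa [h1, h2] at h3
  by_cases hpq : p = q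
  · subst hpq
    rw [m.t_sq (AD.F_lt hp)]
    exact N.one_mem
  by_cases hcm : m.t p * m.t q = m.t q * m.t p
  · obtain ⟨k, hk, h1, h2⟩ := m.KF_trans45 hp hq hpq hcm
    have h3 : m.t 16 * m.t 88 ∈ N := by
      have h4 := N.mul_mem (hN 16 40 b16 b40 (ne_16_40 m)) (hN 40 88 b40 b88 (ne_40_88 m))
      have h5 : m.t 16 * m.t 40 * (m.t 40 * m.t 88) = m.t 16 * (m.t 40 * m.t 40) * m.t 88 := by group
      rwa [h5, m.t_sq (by norm_num), mul_one] at h4
    have h4 := hconj k hk 16 88 (by norm_num) (by norm_num) h3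
    rwa [h1, h2] at h4
  · exact hN p q hp hq hcm

theorem card_KF : Nat.card m.KF = 6531840 := by
  have := m.finite
  refine le_antisymm ?_ m.card_KF_ge
  refine le_trans (card_le_of_le (?_ : m.KF ≤ stabL m.φ [2, 0])) m.card_stab_two
  intro g hg
  have h1 := m.KF_le hg
  rw [mem_centralizer_iff] at h1
  intro q hq
  simp only [List.mem_cons, List.not_mem_nil, or_false] at hq
  rcases hq with rfl | rfl
  · exact (m.comm_iff g (by norm_num)).1 (h1 _ (by simp)).symm
  · exact (m.comm_iff g (by norm_num)).1 (h1 _ (by simp)).symm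

/-- the transpositions of `C(a, b)` -/
def SS : Set ↥m.KF := Subtype.val ⁻¹' {y : G | ∃ p < 3510, F.testBit p = true ∧ y = m.t p}

theorem closure_SS : closure (SS m) = ⊤ := by
  have h := Subgroup.closure_closure_coe_preimage (k := {y : G | ∃ p < 3510, F.testBit p = true ∧ y = m.t p})
  exact h

theorem hasDZ_KF : HasDZ 3 ↥m.KF := by
  have hfin := m.finite
  have hcard := card_KF m
  have hsq : ∀ s ∈ SS m, s * s = 1 := by
    rintro s ⟨p, hp, -, h⟩
    exact Subtype.ext (by
      show (s : G) * s = 1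
      rw [h]; exact m.t_sq hp)
  have hA : ∀ N : Subgroup ↥m.KF, N.Normal → N ≠ ⊥ → ∀ s ∈ SS m, ∀ t ∈ SS m, s * t ∈ N := by
    rintro N hN hne s ⟨p, hp, hpF, hs⟩ t ⟨q, hq, hqF, ht⟩
    have h1 : m.t p * m.t q ∈ N.map m.KF.subtype := by
      refine prod_mem m (N := N.map m.KF.subtype) ?_ ?_ ?_ hpF hqF
      · rintro _ ⟨x, -, rfl⟩; exact x.2
      · rintro k hk _ ⟨x, hx, rfl⟩
        exact ⟨⟨k, hk⟩ * x * ⟨k, hk⟩⁻¹, hN.conj_mem x hx _, rfl⟩
      · intro h
        exact hne ((Subgroup.map_eq_bot_iff_of_injective N m.KF.subtype_injective).1 h)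
    obtain ⟨x, hx, hxe⟩ := h1
    have h2 : x = s * t := Subtype.ext (by
      show (x : G) = s * t
      rw [hs, ht]; exact hxe)
    rwa [← h2]
  have m16 : (⟨m.t 16, m.t_mem_KF (by norm_num) b16⟩ : ↥m.KF) ∈ SS m := ⟨16, by norm_num, b16, rfl⟩
  have hnc : _root_.commutator ↥m.KF ≠ ⊥ := by
    intro h
    have h1 : ⁅(⟨m.t 16, m.t_mem_KF (by norm_num) b16⟩ : ↥m.KF), ⟨m.t 40, m.t_mem_KF (by norm_num) b40⟩⁆ ∈
        _root_.commutator ↥m.KF := commutator_mem_commutator (mem_top _) (mem_top _)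
    rw [h, mem_bot, commutatorElement_eq_one_iff_mul_comm] at h1
    exact ne_16_40 m (congrArg Subtype.val h1)
  obtain ⟨hs, hidx⟩ := simple_commutator (closure_SS m) hsq hA m16 hnc (r := 5) (by norm_num) (by norm_num)
    (by rw [hcard]; norm_num) (by rw [hcard]; norm_num)
  have hmul := (_root_.commutator ↥m.KF).card_mul_index
  rw [hcard] at hmul
  have hidx0 : (_root_.commutator ↥m.KF).index ≠ 0 := index_ne_zero_of_finite
  have hna : ¬ IsMulCommutative ↥(_root_.commutator ↥m.KF) := by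
    intro hc
    let _ : CommGroup ↥(_root_.commutator ↥m.KF) :=
      { (inferInstance : Group ↥(_root_.commutator ↥m.KF)) with mul_comm := hc.is_comm.comm }
    have h1 : (Nat.card ↥(_root_.commutator ↥m.KF)).Prime := IsSimpleGroup.prime_card
    rcases (by omega : (_root_.commutator ↥m.KF).index = 1 ∨ (_root_.commutator ↥m.KF).index = 2) with h2 | h2
    · rw [h2, mul_one] at hmul
      rw [hmul] at h1
      norm_num at h1
    · rw [h2] at hmul
      rw [show Nat.card ↥(_root_.commutator ↥m.KF) = 3265920 by omega] at h1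
      norm_num at h1
  have hdz : HasDZ 3 ↥(_root_.commutator ↥m.KF) := by
    refine hasDZ_of_real OrdDiv.table (fun G => Cfsg.Agent.S0000.result) hna Nat.prime_three
      (l := [(2, 8), (3, 6), (5, 1), (7, 1)]) (N := 6531840) (by decide +kernel) (Dvd.intro _ hmul)
      (fun n => n % 3265920 == 0) ?_ ?_
    · rcases (by omega : (_root_.commutator ↥m.KF).index = 1 ∨ (_root_.commutator ↥m.KF).index = 2) with h2 | h2
      · rw [h2, mul_one] at hmul
        rw [hmul]; rfl
      · rw [h2] at hmul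
        rw [show Nat.card ↥(_root_.commutator ↥m.KF) = 3265920 by omega]; rfl
    · rw [show (OrdDiv.cands [(2, 8), (3, 6), (5, 1), (7, 1)] 6531840).filter (fun g => OrdDiv.ordN g % 3265920 == 0) =
        [.psu 4 3] from by decide +kernel]
      intro g hg hr
      simp only [List.mem_cons, List.not_mem_nil, or_false] at hg
      subst hg
      obtain ⟨F, _, _, hF, h⟩ := hr
      have : Fact (Nat.Prime 3) := ⟨Nat.prime_three⟩
      have hc : CharP F 3 := charP_of_card_eq_prime_pow (f := 2) hF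
      exact Or.inr (Or.inr (Or.inl ⟨F, inferInstance, inferInstance, hc, 4, 3, hF, by norm_num, by norm_num, h⟩))
  refine hasDZ_over Nat.prime_three (_root_.commutator ↥m.KF) hdz fun h => ?_
  have := Nat.le_of_dvd (Nat.pos_of_ne_zero hidx0) h
  omega

theorem orderOf_x : orderOf (m.t 0 * m.t 2) = 3 := by
  have h := m.braid02
  have h0 := m.t_sq (p := 0) (by norm_num)
  have h2 := m.t_sq (p := 2) (by norm_num)
  apply orderOf_eq_prime
  · calc (m.t 0 * m.t 2) ^ 3 = (m.t 0 * m.t 2 * m.t 0) * (m.t 2 * m.t 0 * m.t 2) := by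
          rw [pow_succ, pow_two]; simp only [mul_assoc]
      _ = (m.t 2 * m.t 0 * m.t 2) * (m.t 2 * m.t 0 * m.t 2) := by rw [h]
      _ = m.t 2 * m.t 0 * (m.t 2 * m.t 2) * m.t 0 * m.t 2 := by simp only [mul_assoc]
      _ = 1 := by
        rw [h2, mul_one, mul_assoc (m.t 2), h0, mul_one, h2]
  · intro h1
    apply m.t02_ne
    rw [h1]
    have h3 : m.t 2 = (m.t 0)⁻¹ := (inv_eq_of_mul_eq_one_right h1).symm
    rw [h3, inv_mul_cancel]

theorem KF_le_cent : m.KF ≤ centralizer ({m.t 0 * m.t 2} : Set G) := by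
  intro g hg
  have h1 := m.KF_le hg
  rw [mem_centralizer_iff] at h1
  have h0 := h1 (m.t 0) (by simp)
  have h2 := h1 (m.t 2) (by simp)
  rw [mem_centralizer_singleton_iff]
  calc g * (m.t 0 * m.t 2) = (g * m.t 0) * m.t 2 := by group
    _ = m.t 0 * (g * m.t 2) := by rw [← h0]; group
    _ = m.t 0 * m.t 2 * g := by rw [← h2]; group

theorem card_cent : Nat.card (centralizer ({m.t 0 * m.t 2} : Set G)) ≤ 3 * Nat.card m.KF := by
  classical
  have hfin := m.finite
  have h1 := card_le_of_conj (centralizer ({m.t 0 * m.t 2} : Set G)) (m.t 0) {m.t 0, m.t 1, m.t 2} (by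
    intro g hg
    have hn : g ∈ Subgroup.normalizer ((Subgroup.zpowers (m.t 0 * m.t 2) : Subgroup G) : Set G) := by
      have hg' := mem_centralizer_singleton_iff.1 hg
      have h2 : centralizer ({m.t 0 * m.t 2} : Set G) ≤
          Subgroup.normalizer ((Subgroup.zpowers (m.t 0 * m.t 2) : Subgroup G) : Set G) := by
        intro c hc
        have hc1 := mem_centralizer_singleton_iff.1 hc
        rw [Subgroup.mem_normalizer_iff]
        intro h
        have hz : ∀ z ∈ zpowers (m.t 0 * m.t 2), c * z = z * c := by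
          rintro _ ⟨k, rfl⟩
          exact (Commute.zpow_right (show Commute c (m.t 0 * m.t 2) from hc1) k).eq
        constructor
        · intro hh
          rw [hz h hh, mul_inv_cancel_right]; exact hh
        · intro hh
          have h3 := hz _ hh
          have h4 : c * h * c⁻¹ = h := by
            have h5 : c * (c * h * c⁻¹) = c * h := by rw [h3]; group
            exact mul_left_cancel h5
          rwa [h4] at hh
      exact h2 hg
    simp only [Finset.mem_insert, Finset.mem_singleton]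
    exact m.norm_three hn (m.t_mem (by norm_num)) m.t0_mem)
  have h2 : (({m.t 0, m.t 1, m.t 2} : Finset G)).card ≤ 3 := Finset.card_le_three
  have h3 : Nat.card ↥(centralizer ({m.t 0 * m.t 2} : Set G) ⊓ centralizer ({m.t 0} : Set G)) ≤ Nat.card m.KF := by
    refine card_le_of_le ?_
    rw [← m.cent_eq]
    rintro g ⟨hg1, hg2⟩
    have e1 := mem_centralizer_singleton_iff.1 hg1
    have e2 := mem_centralizer_singleton_iff.1 hg2
    rw [mem_centralizer_iff]
    rintro y (rfl | rfl)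
    · exact e2.symm
    · have h4 : m.t 2 = (m.t 0)⁻¹ * (m.t 0 * m.t 2) := by group
      have h5 : Commute g (m.t 2) := by
        rw [h4]
        exact Commute.mul_right (Commute.inv_right (show Commute g (m.t 0) from e2)) e1
      exact h5.eq.symm
  calc Nat.card (centralizer ({m.t 0 * m.t 2} : Set G)) ≤ _ := h1
    _ ≤ 3 * Nat.card m.KF := Nat.mul_le_mul h2 h3

theorem disj : zpowers (m.t 0 * m.t 2) ⊓ m.KF = ⊥ := by
  rw [eq_bot_iff, ← m.S3_inf]
  refine inf_le_inf_right _ ?_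
  rw [zpowers_le]
  exact m.S3.mul_mem m.t0_mem m.t2_mem

include m in
theorem main : VOrdP 3 G := by
  have : Fact (Nat.Prime 3) := ⟨Nat.prime_three⟩
  have hfin := m.finite
  have hcard := card_KF m
  refine vOrdP_one (orderOf_x m) (KF_le_cent m) (disj m) (card_cent m) (hasDZ_KF m) (n := 9) (by rw [m.card]; norm_num) ?_
  have h1 : Nat.card (centralizer ({m.t 0 * m.t 2} : Set G)) = 19595520 := by
    refine le_antisymm (by have := card_cent m; omega) ?_
    have h2 := card_le_of_le (sup_le (KF_le_cent m))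
    rw [card_sup (KF_le_cent m) (disj m), orderOf_x m, hcard] at h2
    exact h2
  rw [h1]
  norm_num

end FiTwo

/-- **`Fi22`, `p = 3`.** -/
theorem fi22_3 {K : Type u} [Group K] (h : Spor.IsoFi22 K) : VOrdP 3 K := by
  obtain ⟨e⟩ := h
  exact FiTwo.main (D := {x | ∃ g : K, x = g * e.symm (Fischer.Fi22PtsRep.gen .a) * g⁻¹})
    ⟨e.symm, fun _ => Iff.rfl⟩

end Cfsg.Agent.H678.PV
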