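import Cfsg.Agent.H678.PV.Direct
import Cfsg.Agent.OrdDiv.Main

/-!
# Simple subgroups of centralisers (helper678)

* `simple_commutator` : groups generated by involutions in which every nontrivial normal subgroup contains all the products
  of two of them have a simple commutator subgroup, of index at most 2;
* `hasDZ_of_real` : characters of defect zero of the simple groups of a given order.
-/

set_option autoImplicit false

namespace Cfsg.Agent.H678.PV

open Cfsg Subgroup
open scoped commutatorElement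
open Cfsg.Agent.H665.NoPQ Cfsg.Agent.H713 Cfsg.Agent.H620.PNorm

universe u

section general

variable {X : Type u} [Group X] {S : Set X}

theorem commutator_le_of_products (hgen : closure S = ⊤) (hsq : ∀ s ∈ S, s * s = 1) (N : Subgroup X) [N.Normal]
    (h : ∀ s ∈ S, ∀ t ∈ S, s * t ∈ N) : commutator X ≤ N := by
  have hinv : ∀ s ∈ S, s⁻¹ = s := fun s hs => inv_eq_of_mul_eq_one_left (hsq s hs)
  have h1 : ∀ a ∈ S, ∀ b ∈ S, a * b * (b * a)⁻¹ ∈ N := by
    intro a ha b hb
    have h2 : a * b * (b * a)⁻¹ = (a * b) * (a * b) := by rw [mul_inv_rev, hinv a ha, hinv b hb]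
    rw [h2]
    exact N.mul_mem (h a ha b hb) (h a ha b hb)
  have hcomm : ∀ a b : X ⧸ N, a * b = b * a := by
    have key : ∀ a ∈ S, ∀ x : X, (a : X ⧸ N) * (x : X ⧸ N) = (x : X ⧸ N) * (a : X ⧸ N) := by
      intro a ha x
      have hx : x ∈ closure S := hgen ▸ mem_top x
      induction hx using closure_induction with
      | mem b hb =>
        rw [← QuotientGroup.mk_mul, ← QuotientGroup.mk_mul]
        refine (QuotientGroup.eq_iff_div_mem).2 ?_
        rw [div_eq_mul_inv]
        exact h1 a ha b hb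
      | one => rw [QuotientGroup.mk_one, mul_one, one_mul]
      | mul x y _ _ hx hy =>
        rw [QuotientGroup.mk_mul, ← mul_assoc, hx, mul_assoc, hy, mul_assoc]
      | inv x _ hx =>
        rw [QuotientGroup.mk_inv]
        exact (Commute.inv_right (show Commute (a : X ⧸ N) (x : X ⧸ N) from hx)).eq
    intro a b
    obtain ⟨x, rfl⟩ := QuotientGroup.mk_surjective a
    obtain ⟨y, rfl⟩ := QuotientGroup.mk_surjective b
    have hx : x ∈ closure S := hgen ▸ mem_top x
    induction hx using closure_induction with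
    | mem s hs => exact key s hs y
    | one => rw [QuotientGroup.mk_one, mul_one, one_mul]
    | mul x x' _ _ hx hx' =>
      rw [QuotientGroup.mk_mul, mul_assoc, hx', ← mul_assoc, hx, mul_assoc]
    | inv x _ hx =>
      rw [QuotientGroup.mk_inv]
      exact (Commute.inv_left (show Commute (x : X ⧸ N) (y : X ⧸ N) from hx)).eq
  rw [commutator_def, commutator_le]
  intro g _ k _
  rw [← QuotientGroup.eq_one_iff, commutatorElement_def, QuotientGroup.mk_mul, QuotientGroup.mk_mul, QuotientGroup.mk_mul,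
    QuotientGroup.mk_inv, QuotientGroup.mk_inv, hcomm (g : X ⧸ N) (k : X ⧸ N), mul_inv_cancel_right, mul_inv_cancel]

theorem mem_or_mem (hgen : closure S = ⊤) (hsq : ∀ s ∈ S, s * s = 1) (N : Subgroup X) [hN : N.Normal]
    (h : ∀ s ∈ S, ∀ t ∈ S, s * t ∈ N) {t : X} (ht : t ∈ S) (x : X) : x ∈ N ∨ ∃ n ∈ N, x = t * n := by
  have htt := hsq t ht
  have hti : t⁻¹ = t := inv_eq_of_mul_eq_one_left htt
  have hconj : ∀ n ∈ N, t * n * t ∈ N := fun n hn => by
    have := hN.conj_mem n hn t
    rwa [hti] at this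
  have hx : x ∈ closure S := hgen ▸ mem_top x
  induction hx using closure_induction with
  | mem s hs =>
    refine Or.inr ⟨t * s, h t ht s hs, ?_⟩
    rw [← mul_assoc, htt, one_mul]
  | one => exact Or.inl N.one_mem
  | mul x y _ _ hx hy =>
    rcases hx with hx | ⟨n, hn, rfl⟩
    · rcases hy with hy | ⟨k, hk, rfl⟩
      · exact Or.inl (N.mul_mem hx hy)
      · refine Or.inr ⟨t * x * t * k, N.mul_mem (hconj x hx) hk, ?_⟩
        calc x * (t * k) = (t * t) * x * t * k := by rw [htt, one_mul, mul_assoc]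
          _ = _ := by simp only [mul_assoc]
    · rcases hy with hy | ⟨k, hk, rfl⟩
      · exact Or.inr ⟨n * y, N.mul_mem hn hy, by rw [mul_assoc]⟩
      · refine Or.inl ?_
        have : t * n * (t * k) = t * n * t * k := by simp only [mul_assoc]
        rw [this]
        exact N.mul_mem (hconj n hn) hk
  | inv x _ hx =>
    rcases hx with hx | ⟨n, hn, rfl⟩
    · exact Or.inl (N.inv_mem hx)
    · refine Or.inr ⟨t * n⁻¹ * t, hconj _ (N.inv_mem hn), ?_⟩
      rw [mul_inv_rev, hti]
      calc n⁻¹ * t = (t * t) * n⁻¹ * t := by rw [htt, one_mul]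
        _ = _ := by simp only [mul_assoc]

theorem index_le_two (hgen : closure S = ⊤) (hsq : ∀ s ∈ S, s * s = 1) (N : Subgroup X) [hN : N.Normal]
    (h : ∀ s ∈ S, ∀ t ∈ S, s * t ∈ N) {t : X} (ht : t ∈ S) : N.index ≤ 2 := by
  rw [index_eq_card]
  have hsurj : Function.Surjective (fun b : Bool => if b then ((1 : X) : X ⧸ N) else (t : X ⧸ N)) := by
    intro q
    obtain ⟨x, rfl⟩ := QuotientGroup.mk_surjective q
    rcases mem_or_mem hgen hsq N h ht x with hx | ⟨n, hn, rfl⟩
    · exact ⟨true, by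
        show ((1 : X) : X ⧸ N) = (x : X ⧸ N)
        exact ((QuotientGroup.eq_one_iff x).2 hx).symm⟩
    · exact ⟨false, by
        show (t : X ⧸ N) = _
        rw [QuotientGroup.mk_mul, (QuotientGroup.eq_one_iff n).2 hn, mul_one]⟩
  have := Nat.card_le_card_of_surjective _ hsurj
  simpa using this

theorem simple_commutator [Finite X] (hgen : closure S = ⊤) (hsq : ∀ s ∈ S, s * s = 1)
    (hA : ∀ N : Subgroup X, N.Normal → N ≠ ⊥ → ∀ s ∈ S, ∀ t ∈ S, s * t ∈ N) {t : X} (ht : t ∈ S)
    (hnc : commutator X ≠ ⊥) {r : ℕ} (hr : r.Prime) (hr2 : r ≠ 2) (hd : r ∣ Nat.card X)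
    (hd2 : ¬ r ^ 2 ∣ Nat.card X) : IsSimpleGroup ↥(commutator X) ∧ (commutator X).index ≤ 2 := by
  have hN0 : (commutator X).Normal := inferInstance
  have hprod := hA _ hN0 hnc
  have hidx := index_le_two hgen hsq (commutator X) hprod ht
  refine ⟨?_, hidx⟩
  have htt := hsq t ht
  have hti : t⁻¹ = t := inv_eq_of_mul_eq_one_left htt
  have hrN : r ∣ Nat.card ↥(commutator X) := by
    rw [← (commutator X).card_mul_index] at hd
    rcases (hr.dvd_mul).1 hd with h | h
    · exact h
    · exfalso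
      have h1 := Nat.le_of_dvd (Nat.pos_of_ne_zero index_ne_zero_of_finite) h
      have := hr.two_le
      omega
  have hnt : Nontrivial ↥(commutator X) := by
    rw [← Finite.one_lt_card_iff_nontrivial]
    exact lt_of_lt_of_le hr.one_lt (Nat.le_of_dvd Nat.card_pos hrN)
  refine ⟨fun M hM => ?_⟩
  by_contra hcon
  push Not at hcon
  obtain ⟨hMb, hMt⟩ := hcon
  let A : Subgroup X := M.map (commutator X).subtype
  have hAle : A ≤ commutator X := by
    rintro _ ⟨x, -, rfl⟩; exact x.2
  have hAn : ∀ n ∈ commutator X, ∀ a ∈ A, n * a * n⁻¹ ∈ A := by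
    rintro n hn _ ⟨x, hx, rfl⟩
    exact ⟨⟨n, hn⟩ * x * ⟨n, hn⟩⁻¹, hM.conj_mem x hx ⟨n, hn⟩, rfl⟩
  let B : Subgroup X := A.map (MulAut.conj t).toMonoidHom
  have hmemB : ∀ b : X, b ∈ B ↔ t * b * t ∈ A := by
    intro b
    constructor
    · rintro ⟨a, ha, rfl⟩
      show t * (t * a * t⁻¹) * t ∈ A
      have : t * (t * a * t⁻¹) * t = (t * t) * a * (t⁻¹ * t) := by simp only [mul_assoc]
      rw [this, htt, inv_mul_cancel, one_mul, mul_one]
      exact ha
    · intro h
      refine ⟨t * b * t, h, ?_⟩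
      show t * (t * b * t) * t⁻¹ = b
      have : t * (t * b * t) * t⁻¹ = (t * t) * b * (t * t⁻¹) := by simp only [mul_assoc]
      rw [this, htt, mul_inv_cancel, one_mul, mul_one]
  have hBle : B ≤ commutator X := by
    rintro _ ⟨a, ha, rfl⟩
    exact hN0.conj_mem a (hAle ha) t
  have hconjN : ∀ n ∈ commutator X, t * n * t ∈ commutator X := fun n hn => by
    have := hN0.conj_mem n hn t
    rwa [hti] at this
  have hBn : ∀ n ∈ commutator X, ∀ b ∈ B, n * b * n⁻¹ ∈ B := by
    intro n hn b hb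
    rw [hmemB] at hb ⊢
    have h1 := hAn _ (hconjN n hn) _ hb
    have h2 : t * n * t * (t * b * t) * (t * n * t)⁻¹ = t * (n * b * n⁻¹) * t := by
      rw [mul_inv_rev, mul_inv_rev, hti]
      calc t * n * t * (t * b * t) * (t * (n⁻¹ * t)) = t * n * (t * t) * b * (t * t) * n⁻¹ * t := by
            simp only [mul_assoc]
        _ = t * (n * b * n⁻¹) * t := by rw [htt]; simp only [mul_assoc, mul_one]
    rwa [h2] at h1
  have hswap : ∀ a, a ∈ A ↔ t * a * t ∈ B := by
    intro a
    rw [hmemB]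
    have : t * (t * a * t) * t = (t * t) * a * (t * t) := by simp only [mul_assoc]
    rw [this, htt, one_mul, mul_one]
  -- the intersection and the product are normal
  have hnormal : ∀ I : Subgroup X, (∀ n ∈ commutator X, ∀ a ∈ I, n * a * n⁻¹ ∈ I) → (∀ a ∈ I, t * a * t ∈ I) → I.Normal := by
    intro I h1 h2
    refine ⟨fun a ha g => ?_⟩
    rcases mem_or_mem hgen hsq (commutator X) hprod ht g with hg | ⟨n, hn, rfl⟩
    · exact h1 g hg a ha
    · have h3 := h2 _ (h1 n hn a ha)
      have h4 : t * (n * a * n⁻¹) * t = t * n * a * (t * n)⁻¹ := by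
        rw [mul_inv_rev, hti]; simp only [mul_assoc]
      rwa [h4] at h3
  have hI : (A ⊓ B).Normal := by
    refine hnormal _ (fun n hn a ha => ⟨hAn n hn a ha.1, hBn n hn a ha.2⟩) fun a ha => ⟨?_, ?_⟩
    · exact (hmemB a).1 ha.2
    · exact (hswap a).1 ha.1
  have hAtop : A ≠ commutator X := by
    intro h
    apply hMt
    rw [eq_top_iff]
    rintro x -
    have h1 : (x : X) ∈ A := by rw [h]; exact x.2
    obtain ⟨y, hy, hyx⟩ := h1
    rwa [← Subtype.ext (a1 := y) (a2 := x) hyx]
  have hIbot : A ⊓ B = ⊥ := by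
    by_contra hne
    have h1 := commutator_le_of_products hgen hsq (A ⊓ B) (hA _ hI hne)
    exact hAtop (le_antisymm hAle (h1.trans inf_le_left))
  have hcomm : ∀ a ∈ A, ∀ b ∈ B, Commute a b := by
    intro a ha b hb
    have h1 : a * b * a⁻¹ * b⁻¹ ∈ A ⊓ B := by
      constructor
      · have : a * b * a⁻¹ * b⁻¹ = a * (b * a⁻¹ * b⁻¹) := by simp only [mul_assoc]
        rw [this]
        exact A.mul_mem ha (hAn b (hBle hb) _ (A.inv_mem ha))
      · exact B.mul_mem (hBn a (hAle ha) b hb) (B.inv_mem hb)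
    rw [hIbot, mem_bot] at h1
    have h2 : a * b * (b * a)⁻¹ = 1 := by rw [mul_inv_rev, ← mul_assoc, h1]
    exact mul_inv_eq_one.1 h2
  have hJ : (A ⊔ B).Normal := by
    refine hnormal _ ?_ ?_
    · intro n hn a ha
      have h1 : (A ⊔ B).map (MulAut.conj n).toMonoidHom ≤ A ⊔ B := by
        rw [Subgroup.map_sup]
        refine _root_.sup_le ?_ ?_
        · rintro _ ⟨a, ha, rfl⟩
          exact mem_sup_left (hAn n hn a ha)
        · rintro _ ⟨a, ha, rfl⟩
          exact mem_sup_right (hBn n hn a ha)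
      exact h1 ⟨a, ha, rfl⟩
    · intro a ha
      have h1 : (A ⊔ B).map (MulAut.conj t).toMonoidHom ≤ A ⊔ B := by
        rw [Subgroup.map_sup]
        refine _root_.sup_le ?_ ?_
        · exact le_sup_right
        · rintro _ ⟨b, hb, rfl⟩
          refine mem_sup_left ?_
          show t * b * t⁻¹ ∈ A
          rw [hti]
          exact (hmemB b).1 hb
      have h2 := h1 ⟨a, ha, rfl⟩
      have h3 : (MulAut.conj t).toMonoidHom a = t * a * t := by
        show t * a * t⁻¹ = _
        rw [hti]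
      rwa [h3] at h2
  have hAbot : A ≠ ⊥ := by
    intro h
    apply hMb
    rw [eq_bot_iff]
    intro x hx
    have h1 : (x : X) ∈ A := ⟨x, hx, rfl⟩
    rw [h, mem_bot] at h1
    exact mem_bot.2 (Subtype.ext h1)
  have hJbot : A ⊔ B ≠ ⊥ := fun h => hAbot (le_bot_iff.1 (h ▸ le_sup_left))
  have hJeq : A ⊔ B = commutator X :=
    le_antisymm (_root_.sup_le hAle hBle) (commutator_le_of_products hgen hsq _ (hA _ hJ hJbot))
  have hcardB : Nat.card ↥B = Nat.card ↥A := card_map_of_injective (MulAut.conj t).injective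
  have hcard := card_sup_of_commute A B hcomm hIbot
  rw [hJeq, hcardB] at hcard
  apply hd2
  have h1 : r ∣ Nat.card ↥A := by
    rw [hcard] at hrN
    rcases (hr.dvd_mul).1 hrN with h | h <;> exact h
  rw [pow_two]
  have h2 := mul_dvd_mul h1 h1
  rw [← hcard] at h2
  exact h2.trans (card_subgroup_dvd_card _)

end general

/-- A simple group of order `n` which, according to the table of the orders, can only be of Lie type in characteristic
`p`. -/
theorem hasDZ_of_real (T : OrdDiv.OrderTable.{u}) (hS : ∀ (G : Type u) [Group G] [Finite G] [IsSimpleGroup G], IsKnownSimple' G)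
    {K : Type u} [Group K] [Finite K] [IsSimpleGroup K] (hna : ¬ IsMulCommutative K) {p : ℕ} (hp : p.Prime)
    {l : List (ℕ × ℕ)} {N : ℕ} (hv : OrdDiv.valid l N = true) (hd : Nat.card K ∣ N) (P : ℕ → Bool)
    (hP : P (Nat.card K) = true)
    (h : ∀ g ∈ (OrdDiv.cands l N).filter (fun g => P (OrdDiv.ordN g)), OrdDiv.Real g K → IsLieTypeChar p K) : HasDZ p K := by
  obtain ⟨g, h1, h2⟩ := OrdDiv.exists_real_filter T (hS K) (fun h => hna ⟨⟨h⟩⟩) hv hd P hP
  exact hasDZ_lie hp hna (h g h1 h2)

end Cfsg.Agent.H678.PV
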